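import Cfsg.Agent.Symplectic.Std

/-!
Elementary matrices of the standard symplectic group: supports, short root elements, Weyl elements,
torus elements.
-/

set_option autoImplicit false
set_option linter.unusedSectionVars false
set_option linter.unusedSimpArgs false

namespace Cfsg.Agent.H68.SpAmalgam

open Cfsg.Agent.Symplectic

attribute [-simp] spB_apply

/-- The standard symplectic group. -/
abbrev Sp (n : ℕ) (F : Type*) [Field F] : Type _ := ↥(Matrix.symplecticGroup (Fin n) F)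

variable {F : Type*} [Field F] {n : ℕ}

local notation "V" => (Fin n ⊕ Fin n → F)
local notation "G" => Sp n F
local notation "B" => spB n F

/-- The action on vectors. -/
noncomputable def ap (g : G) : V ≃ₗ[F] V := (spEquiv n F g).1

theorem ap_eq (g : G) (v : V) : ap g v = (g : Mat n F).mulVec v := rfl

/-- The vector `e_k`. -/
def e (k : Fin n) : V := Pi.single (Sum.inl k) 1

/-- The vector `f_k`. -/
def f (k : Fin n) : V := Pi.single (Sum.inr k) 1

theorem ap_mul (g h : G) (v : V) : ap (g * h) v = ap g (ap h v) := by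
  rw [ap, map_mul]; rfl

theorem ap_one (v : V) : ap (1 : G) v = v := by rw [ap, map_one]; rfl

theorem ap_inv_ap (g : G) (v : V) : ap g⁻¹ (ap g v) = v := by
  rw [← ap_mul, inv_mul_cancel, ap_one]

theorem ap_ap_inv (g : G) (v : V) : ap g (ap g⁻¹ v) = v := by
  rw [← ap_mul, mul_inv_cancel, ap_one]

theorem B_ap (g : G) (u v : V) : B (ap g u) (ap g v) = B u v := (spEquiv n F g).2 u v

theorem B_self (u : V) : B u u = 0 := alt_self (spB_alt n F) u

theorem B_swap (u v : V) : B u v = -B v u := alt_swap (spB_alt n F) u v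

theorem B_f (l : Fin n) (v : V) : B (f l) v = v (Sum.inl l) := by
  rw [spB_apply, sympForm_eq]
  simp [f, Pi.single_apply, Finset.sum_ite_eq', eq_comm]

theorem B_e (l : Fin n) (v : V) : B (e l) v = -v (Sum.inr l) := by
  rw [spB_apply, sympForm_eq]
  simp [e, Pi.single_apply, Finset.sum_ite_eq', eq_comm]

theorem B_right_f (v : V) (l : Fin n) : B v (f l) = -v (Sum.inl l) := by rw [B_swap, B_f]

theorem B_right_e (v : V) (l : Fin n) : B v (e l) = v (Sum.inr l) := by rw [B_swap, B_e, neg_neg]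

@[simp] theorem e_inl (k l : Fin n) : (e k : V) (Sum.inl l) = if l = k then 1 else 0 := by
  simp [e, Pi.single_apply]

@[simp] theorem e_inr (k l : Fin n) : (e k : V) (Sum.inr l) = 0 := by simp [e]

@[simp] theorem f_inr (k l : Fin n) : (f k : V) (Sum.inr l) = if l = k then 1 else 0 := by
  simp [f, Pi.single_apply]

@[simp] theorem f_inl (k l : Fin n) : (f k : V) (Sum.inl l) = 0 := by simp [f]

theorem eq_sum (v : V) : v = ∑ l, (v (Sum.inl l) • e l + v (Sum.inr l) • f l) := by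
  funext s
  rcases s with s | s <;> simp [Finset.sum_apply]

theorem ext_ap {g h : G} (he : ∀ l, ap g (e l) = ap h (e l)) (hf : ∀ l, ap g (f l) = ap h (f l)) :
    g = h := by
  refine sp_ext fun v => ?_
  rw [← ap_eq, ← ap_eq, eq_sum v, map_sum, map_sum]
  exact Finset.sum_congr rfl fun l _ => by rw [map_add, map_add, map_smul, map_smul, map_smul, map_smul, he, hf]

/-- `g` moves only the planes with index in `A`. -/
def Supp (A : Set ℕ) (g : G) : Prop :=
  ∀ l : Fin n, (l : ℕ) ∉ A → ap g (e l) = e l ∧ ap g (f l) = f l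

/-- The defining property of the groups `S_k`. -/
def Pl (k : Fin n) (g : G) : Prop :=
  ∀ l : Fin n, l ≠ k → ap g (e l) = e l ∧ ap g (f l) = f l

/-- The defining property of the groups `M_i`. -/
def Up (i : Fin n) (g : G) : Prop :=
  (∀ l : Fin n, ap g (e l) = e l) ∧
    ∀ l : Fin n, (l : ℕ) ≠ i → (l : ℕ) ≠ (i : ℕ) + 1 → ap g (f l) = f l

theorem Pl.supp {k : Fin n} {g : G} (h : Pl k g) : Supp {(k : ℕ)} g :=
  fun l hl => h l fun e => hl (by simp [e])

theorem Up.supp {i : Fin n} {g : G} (h : Up i g) : Supp {(i : ℕ), (i : ℕ) + 1} g :=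
  fun l hl => ⟨h.1 l, h.2 l (fun e => hl (by simp [e])) fun e => hl (by simp [e])⟩

theorem Supp.mono {A A' : Set ℕ} (hA : A ⊆ A') {g : G} (h : Supp A g) : Supp A' g :=
  fun l hl => h l fun h' => hl (hA h')

theorem supp_one (A : Set ℕ) : Supp A (1 : G) := fun l _ => ⟨ap_one _, ap_one _⟩

theorem Supp.mul {A : Set ℕ} {g h : G} (hg : Supp A g) (hh : Supp A h) : Supp A (g * h) :=
  fun l hl => by rw [ap_mul, ap_mul, (hh l hl).1, (hh l hl).2]; exact hg l hl

theorem Supp.inv {A : Set ℕ} {g : G} (hg : Supp A g) : Supp A g⁻¹ := fun l hl => by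
  obtain ⟨h1, h2⟩ := hg l hl
  exact ⟨by conv_lhs => rw [← h1]; rw [ap_inv_ap], by conv_lhs => rw [← h2]; rw [ap_inv_ap]⟩

theorem Pl.of_supp {k : Fin n} {g : G} (h : Supp {(k : ℕ)} g) : Pl k g :=
  fun l hl => h l fun e => hl (Fin.ext e)

theorem Pl.mul {k : Fin n} {g h : G} (hg : Pl k g) (hh : Pl k h) : Pl k (g * h) :=
  Pl.of_supp (hg.supp.mul hh.supp)

theorem Pl.inv {k : Fin n} {g : G} (hg : Pl k g) : Pl k g⁻¹ := Pl.of_supp hg.supp.inv

theorem Supp.fix {A : Set ℕ} {g : G} (h : Supp A g) {v : V}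
    (hv : ∀ l : Fin n, (l : ℕ) ∈ A → v (Sum.inl l) = 0 ∧ v (Sum.inr l) = 0) : ap g v = v := by
  conv_rhs => rw [eq_sum v]
  conv_lhs => rw [eq_sum v]
  rw [map_sum]
  refine Finset.sum_congr rfl fun l _ => ?_
  by_cases hl : (l : ℕ) ∈ A
  · rw [(hv l hl).1, (hv l hl).2, zero_smul, zero_smul, add_zero, map_zero]
  · rw [map_add, map_smul, map_smul, (h l hl).1, (h l hl).2]

theorem Supp.coord {A : Set ℕ} {g : G} (h : Supp A g) {l : Fin n} (hl : (l : ℕ) ∉ A) (v : V) :
    ap g v (Sum.inl l) = v (Sum.inl l) ∧ ap g v (Sum.inr l) = v (Sum.inr l) := by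
  constructor
  · rw [← B_f l (ap g v), ← B_f l v]
    conv_lhs => rw [← (h l hl).2]
    rw [B_ap]
  · have h1 := B_ap g (e l) v
    rw [(h l hl).1, B_e, B_e, neg_inj] at h1
    exact h1

theorem Supp.commute {A A' : Set ℕ} {g h : G} (hg : Supp A g) (hh : Supp A' h)
    (hd : ∀ x, x ∈ A → x ∉ A') : Commute g h := by
  classical
  refine sp_ext fun v => ?_
  rw [← ap_eq, ← ap_eq, ap_mul, ap_mul]
  set a : V := Sum.elim (fun l : Fin n => if (l : ℕ) ∈ A then v (Sum.inl l) else 0)
    (fun l : Fin n => if (l : ℕ) ∈ A then v (Sum.inr l) else 0)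
  have hva : ∀ l : Fin n, (l : ℕ) ∈ A → (v - a) (Sum.inl l) = 0 ∧ (v - a) (Sum.inr l) = 0 :=
    fun l hl => by simp [a, hl]
  have ha : ∀ l : Fin n, (l : ℕ) ∈ A' → a (Sum.inl l) = 0 ∧ a (Sum.inr l) = 0 := fun l hl => by
    have : (l : ℕ) ∉ A := fun h' => hd _ h' hl
    simp [a, this]
  have e1 : ap h a = a := hh.fix ha
  have e2 : ap g (v - a) = v - a := hg.fix hva
  have e3 : ap g (ap h (v - a)) = ap h (v - a) := hg.fix fun l hl => by
    rw [(hh.coord (hd _ hl) _).1, (hh.coord (hd _ hl) _).2]; exact hva l hl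
  have e4 : ap h (ap g a) = ap g a := hh.fix fun l hl => by
    rw [(hg.coord (fun h' => hd _ h' hl) _).1, (hg.coord (fun h' => hd _ h' hl) _).2]; exact ha l hl
  rw [show v = a + (v - a) by abel, map_add (ap h), map_add (ap g) a, map_add, map_add, e1, e2, e3, e4]

theorem Up.commute {i i' : Fin n} {g h : G} (hg : Up i g) (hh : Up i' h) : Commute g h := by
  have coord : ∀ {x : G}, (∀ l, ap x (e l) = e l) → ∀ v l, ap x v (Sum.inr l) = v (Sum.inr l) := by
    intro x hx v l
    have h1 := B_ap x (e l) v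
    rw [hx, B_e, B_e, neg_inj] at h1
    exact h1
  have fixd : ∀ {x : G}, (∀ l, ap x (e l) = e l) → ∀ d : V, (∀ l, d (Sum.inr l) = 0) → ap x d = d := by
    intro x hx d hd
    conv_rhs => rw [eq_sum d]
    conv_lhs => rw [eq_sum d]
    rw [map_sum]
    exact Finset.sum_congr rfl fun l _ => by rw [map_add, map_smul, map_smul, hx, hd, zero_smul, zero_smul]
  refine sp_ext fun v => ?_
  rw [← ap_eq, ← ap_eq, ap_mul, ap_mul]
  have e1 : ap g (ap h v - v) = ap h v - v := fixd hg.1 _ fun l => by simp [coord hh.1]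
  have e2 : ap h (ap g v - v) = ap g v - v := fixd hh.1 _ fun l => by simp [coord hg.1]
  rw [map_sub] at e1 e2
  rw [sub_eq_iff_eq_add] at e1 e2
  rw [e1, e2]; abel

/-! ### The elements -/

theorem ap_T (v : V) (c : F) (x : V) : ap (T v c) x = x + (c * B x v) • v := by
  rw [ap_eq, T_mulVec, spB_apply]

theorem T_zero' (c : F) : T (0 : V) c = (1 : G) :=
  sp_ext fun x => by rw [← ap_eq, ← ap_eq, ap_T, smul_zero, add_zero, ap_one]

theorem supp_T {A : Set ℕ} {v : V} (hv : ∀ l : Fin n, (l : ℕ) ∉ A → v (Sum.inl l) = 0 ∧ v (Sum.inr l) = 0)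
    (c : F) : Supp A (T v c : G) := fun l hl => by
  rw [ap_T, ap_T, B_e, B_f, (hv l hl).1, (hv l hl).2]; simp

/-- The short root element with the two (orthogonal) vectors `a`, `u`. -/
def E (a u : V) : G := T (a + u) 1 * T u (-1) * T a (-1)

theorem ap_E {a u : V} (h : B u a = 0) (x : V) : ap (E a u) x = x + B x a • u + B x u • a := by
  have h' : B a u = 0 := by rw [B_swap, h, neg_zero]
  simp only [E, ap_mul, ap_T, map_add, map_smul, LinearMap.add_apply, LinearMap.smul_apply,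
    smul_eq_mul, B_self, h, h']
  module

theorem E_conj (g : G) (a u : V) : g * E a u * g⁻¹ = E (ap g a) (ap g u) := by
  rw [E, E, show g * (T (a + u) 1 * T u (-1) * T a (-1)) * g⁻¹ =
    (g * T (a + u) 1 * g⁻¹) * (g * T u (-1) * g⁻¹) * (g * T a (-1) * g⁻¹) by group,
    T_conj, T_conj, T_conj, ← ap_eq, ← ap_eq, ← ap_eq, map_add]

theorem E_zero (a : V) : E a (0 : V) = (1 : G) :=
  sp_ext fun x => by rw [← ap_eq, ← ap_eq, ap_E (by simp), ap_one]; simp

theorem E_smul {a u : V} (h : B u a = 0) (c : F) : E (c • a) u = E a (c • u) := by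
  refine sp_ext fun x => ?_
  rw [← ap_eq, ← ap_eq, ap_E (by simp [h]), ap_E (by simp [h])]
  simp only [map_smul, smul_eq_mul]
  module

theorem E_add {a u u' : V} (h : B u a = 0) (h' : B u' a = 0) :
    E a u * E a u' = E a (u + u') * T a (B u' u) := by
  have h2 : B a u = 0 := by rw [B_swap, h, neg_zero]
  have h3 : B a u' = 0 := by rw [B_swap, h', neg_zero]
  refine sp_ext fun x => ?_
  rw [← ap_eq, ← ap_eq, ap_mul, ap_mul, ap_E h', ap_E h, ap_E (by simp [h, h']), ap_T]
  simp only [map_add, map_smul, LinearMap.add_apply, LinearMap.smul_apply, smul_eq_mul, B_self, h, h', h2, h3]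
  module

theorem supp_E {A : Set ℕ} {a u : V} (ha : ∀ l : Fin n, (l : ℕ) ∉ A → a (Sum.inl l) = 0 ∧ a (Sum.inr l) = 0)
    (hu : ∀ l : Fin n, (l : ℕ) ∉ A → u (Sum.inl l) = 0 ∧ u (Sum.inr l) = 0) : Supp A (E a u : G) :=
  ((supp_T (fun l hl => by simp [(ha l hl).1, (ha l hl).2, (hu l hl).1, (hu l hl).2]) 1).mul
    (supp_T hu _)).mul (supp_T ha _)

/-- The long root element of `e_k`. -/
def ex (k : Fin n) (z : F) : G := T (e k) z

/-- The long root element of `f_k`. -/
def ey (k : Fin n) (z : F) : G := T (f k) z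

/-- The Weyl element of the `k`-th plane with parameter `t`. -/
def ew (k : Fin n) (t : F) : G := ex k t * ey k t⁻¹ * ex k t

/-- The torus element of the `k`-th plane. -/
def eh (k : Fin n) (t : F) : G := ew k t * (ew k 1)⁻¹

theorem pl_ex (k : Fin n) (z : F) : Pl k (ex k z : G) :=
  Pl.of_supp (supp_T (fun l hl => by
    have : l ≠ k := fun h => hl (by simp [h])
    simp [this]) z)

theorem pl_ey (k : Fin n) (z : F) : Pl k (ey k z : G) :=
  Pl.of_supp (supp_T (fun l hl => by
    have : l ≠ k := fun h => hl (by simp [h])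
    simp [this]) z)

theorem pl_ew (k : Fin n) (t : F) : Pl k (ew k t : G) := ((pl_ex k t).mul (pl_ey k _)).mul (pl_ex k t)

theorem pl_eh (k : Fin n) (t : F) : Pl k (eh k t : G) := (pl_ew k t).mul (pl_ew k 1).inv

theorem ap_ex_e (k : Fin n) (z : F) : ap (ex k z) (e k) = (e k : V) := by
  rw [ex, ap_T, B_self]; simp

theorem ap_ex_f (k : Fin n) (z : F) : ap (ex k z) (f k) = f k + z • (e k : V) := by
  rw [ex, ap_T, B_f]; simp

theorem ap_ey_e (k : Fin n) (z : F) : ap (ey k z) (e k) = e k - z • (f k : V) := by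
  rw [ey, ap_T, B_e]; simp [sub_eq_add_neg]

theorem ap_ey_f (k : Fin n) (z : F) : ap (ey k z) (f k) = (f k : V) := by
  rw [ey, ap_T, B_self]; simp

theorem ap_ew (k : Fin n) {t : F} (ht : t ≠ 0) :
    ap (ew k t) (e k) = (-t⁻¹) • (f k : V) ∧ ap (ew k t) (f k) = t • (e k : V) := by
  constructor
  · rw [ew, ap_mul, ap_mul, ap_ex_e, ap_ey_e, map_sub, map_smul, ap_ex_e, ap_ex_f, smul_add, smul_smul,
      inv_mul_cancel₀ ht, one_smul, neg_smul]
    abel
  · rw [ew, ap_mul, ap_mul, ap_ex_f, map_add, map_smul, ap_ey_f, ap_ey_e, smul_sub, smul_smul,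
      mul_inv_cancel₀ ht, one_smul, map_add, map_sub, map_smul, ap_ex_e]
    abel

theorem ap_eh (k : Fin n) {t : F} (ht : t ≠ 0) :
    ap (eh k t) (e k) = t • (e k : V) ∧ ap (eh k t) (f k) = t⁻¹ • (f k : V) := by
  obtain ⟨w1, w2⟩ := ap_ew (F := F) k (t := 1) one_ne_zero
  rw [one_smul] at w2
  rw [inv_one, neg_one_smul] at w1
  obtain ⟨t1, t2⟩ := ap_ew (F := F) k ht
  have i1 : ap (ew k (1 : F))⁻¹ (e k) = f k := by rw [← w2, ap_inv_ap]
  have i2 : ap (ew k (1 : F))⁻¹ (f k) = -(e k : V) := by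
    rw [← neg_neg (f k : V), ← w1, map_neg, ap_inv_ap]
  constructor
  · rw [eh, ap_mul, i1, t2]
  · rw [eh, ap_mul, i2, map_neg, t1, neg_smul, neg_neg]

theorem ext_pl {k : Fin n} {g h : G} (hg : Pl k g) (hh : Pl k h) (he : ap g (e k) = ap h (e k))
    (hf : ap g (f k) = ap h (f k)) : g = h := by
  refine ext_ap (fun l => ?_) (fun l => ?_) <;> by_cases hl : l = k
  · rw [hl, he]
  · rw [(hg l hl).1, (hh l hl).1]
  · rw [hl, hf]
  · rw [(hg l hl).2, (hh l hl).2]

theorem up_ex {i k : Fin n} (hk : (k : ℕ) = i ∨ (k : ℕ) = (i : ℕ) + 1) (z : F) : Up i (ex k z : G) := by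
  refine ⟨fun l => ?_, fun l h1 h2 => ?_⟩
  · rw [ex, ap_T, B_e]; simp
  · have : l ≠ k := by rintro rfl; rcases hk with h | h <;> omega
    rw [ex, ap_T, B_f]; simp [this]

theorem up_E {i j : Fin n} (hj : (j : ℕ) = (i : ℕ) + 1) (c : F) : Up i (E (e i) (c • e j) : G) := by
  have hB : B (c • (e j : V)) (e i) = 0 := by simp [B_e]
  refine ⟨fun l => ?_, fun l h1 h2 => ?_⟩
  · rw [ap_E hB]; simp [B_e]
  · have hli : l ≠ i := fun h => h1 (by rw [h])
    have hlj : l ≠ j := fun h => h2 (by rw [h, hj])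
    rw [ap_E hB]; simp [B_f, hli, hlj]

/-- The elements of `M_i` in coordinates. -/
theorem Up.decomp {i j : Fin n} (hj : (j : ℕ) = (i : ℕ) + 1) {g : G} (hg : Up i g) :
    ∃ a c d : F, g = ex i a * E (e i) (c • e j) * ex j d := by
  set a := ap g (f i) (Sum.inl i)
  set c := ap g (f i) (Sum.inl j)
  set d := ap g (f j) (Sum.inl j)
  refine ⟨a, c, d, ext_ap (fun l => ?_) (fun l => ?_)⟩
  · rw [hg.1, ap_mul, ap_mul, (up_ex (Or.inr hj) d).1, (up_E hj c).1, (up_ex (Or.inl rfl) a).1]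
  have hij : i ≠ j := fun h => by rw [h] at hj; omega
  have hB : B (c • (e j : V)) (e i) = 0 := by simp [B_e]
  have coordr : ∀ v m, ap g v (Sum.inr m) = v (Sum.inr m) := fun v m => by
    have h1 := B_ap g (e m) v
    rw [hg.1, B_e, B_e, neg_inj] at h1
    exact h1
  have coordl : ∀ v m, m ≠ i → m ≠ j → ap g v (Sum.inl m) = v (Sum.inl m) := fun v m h1 h2 => by
    have h := B_ap g (f m) v
    rw [hg.2 m (fun h => h1 (Fin.ext h)) (fun h => h2 (Fin.ext (by omega))), B_f, B_f] at h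
    exact h
  have hsym : ap g (f j) (Sum.inl i) = c := by
    have h := B_ap g (f i) (f j)
    rw [B_f, f_inl, spB_apply, sympForm_eq] at h
    simp only [coordr, f_inr] at h
    simp [Finset.sum_sub_distrib, c] at h ⊢
    linear_combination h
  rw [ap_mul, ap_mul]
  by_cases hli : l = i
  · subst hli
    rw [((pl_ex j d) l hij).2, ap_E hB, map_add, map_add, map_smul, map_smul, map_smul, B_f, B_f,
      ap_ex_f, ap_ex_e, ((pl_ex l a) j (Ne.symm hij)).1]
    funext s
    rcases s with s | s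
    · by_cases hs1 : s = l
      · subst hs1; simp [a, hij]
      · by_cases hs2 : s = j
        · subst hs2; simp [hij, Ne.symm hij, hs1, Ne.symm hs1, ite_apply, c, hs1]
        · simp [hij, Ne.symm hij, ite_apply, coordl _ _ hs1 hs2, hs1, hs2]
    · simp [hij, Ne.symm hij, ite_apply, coordr]
  by_cases hlj : l = j
  · subst hlj
    rw [ap_ex_f, map_add, map_smul, ap_E hB, (up_E hj c).1, map_add, map_add, map_add, map_smul, map_smul,
      map_smul, map_smul, B_f, B_f, ((pl_ex i a) l hli).2, ((pl_ex i a) l hli).1, ap_ex_e]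
    funext s
    rcases s with s | s
    · by_cases hs1 : s = i
      · rw [hs1]; simp [hli, Ne.symm hli, ((pl_ex i a) l hli).1, ite_apply, hsym, hij]
      · by_cases hs2 : s = l
        · rw [hs2]; simp [hli, Ne.symm hli, ((pl_ex i a) l hli).1, ite_apply, d]
        · simp [hli, Ne.symm hli, ((pl_ex i a) l hli).1, ite_apply, coordl _ _ hs1 hs2, hs1, hs2]
    · simp [hli, Ne.symm hli, ((pl_ex i a) l hli).1, ite_apply, coordr]
  · rw [(pl_ex j d l hlj).2, (up_E hj c).2 l (fun h => hli (Fin.ext h)) (fun h => hlj (Fin.ext (by omega))),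
      (pl_ex i a l hli).2, hg.2 l (fun h => hli (Fin.ext h)) (fun h => hlj (Fin.ext (by omega)))]

end Cfsg.Agent.H68.SpAmalgam
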