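import Cfsg.Agent.H68.SpAmalgam.Basic

/-!
An amalgam of the subgroups `S_k`, `M_i`, given by lifts into the product with the target group, and
the lifts of the unipotent radical of a point stabiliser.
-/

set_option autoImplicit false
set_option linter.unusedSectionVars false
set_option linter.unusedSimpArgs false

namespace Cfsg.Agent.H68.SpAmalgam

open Cfsg.Agent.Symplectic

attribute [-simp] spB_apply

variable {F : Type*} [Field F] {n : ℕ} {H : Type*} [Group H]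

local notation "V" => (Fin n ⊕ Fin n → F)
local notation "B" => spB n F

/-- The projection is injective on `R`. -/
def InjFst (R : Subgroup (Sp n F × H)) : Prop := ∀ x ∈ R, x.1 = 1 → x = 1

theorem InjFst.eq {R : Subgroup (Sp n F × H)} (hR : InjFst R) {x y : Sp n F × H} (hx : x ∈ R) (hy : y ∈ R)
    (h : x.1 = y.1) : x = y :=
  mul_inv_eq_one.1 (hR _ (mul_mem hx (inv_mem hy)) (by simp [h]))

theorem InjFst.commute {R : Subgroup (Sp n F × H)} (hR : InjFst R) {x y : Sp n F × H} (hx : x ∈ R) (hy : y ∈ R)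
    (h : Commute x.1 y.1) : Commute x y :=
  hR.eq (mul_mem hx hy) (mul_mem hy hx) h

/-- An amalgam: lifts of the subgroups, any two of which generate a faithful copy. -/
structure Amal (ls lm : Fin n → Sp n F → Sp n F × H) : Prop where
  ls_fst : ∀ k g, (ls k g).1 = g
  lm_fst : ∀ i g, (lm i g).1 = g
  SS : ∀ k l : Fin n, ∃ R : Subgroup (Sp n F × H), InjFst R ∧ (∀ g, Pl k g → ls k g ∈ R) ∧
    ∀ g, Pl l g → ls l g ∈ R
  MM : ∀ i i' : Fin n, (i : ℕ) + 1 < n → (i' : ℕ) + 1 < n → ∃ R : Subgroup (Sp n F × H), InjFst R ∧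
    (∀ g, Up i g → lm i g ∈ R) ∧ ∀ g, Up i' g → lm i' g ∈ R
  MS : ∀ i k : Fin n, (i : ℕ) + 1 < n → ∃ R : Subgroup (Sp n F × H), InjFst R ∧
    (∀ g, Up i g → lm i g ∈ R) ∧ ∀ g, Pl k g → ls k g ∈ R


/-- Everything with index at least `j`. -/
def L (ls lm : Fin n → Sp n F → Sp n F × H) (j : ℕ) : Subgroup (Sp n F × H) :=
  Subgroup.closure {x | (∃ k : Fin n, j ≤ (k : ℕ) ∧ ∃ g, Pl k g ∧ x = ls k g) ∨
    ∃ k : Fin n, j ≤ (k : ℕ) ∧ (k : ℕ) + 1 < n ∧ ∃ g, Up k g ∧ x = lm k g}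

/-- Vectors supported on the indices at least `j`. -/
def Above (j : ℕ) (v : V) : Prop :=
  ∀ l : Fin n, (l : ℕ) < j → v (Sum.inl l) = 0 ∧ v (Sum.inr l) = 0

/-- What the induction provides at level `j`. -/
structure Good (ls lm : Fin n → Sp n F → Sp n F × H) (j : ℕ) : Prop where
  inj : InjFst (L ls lm j)
  surj : ∀ g : Sp n F, Supp {l | j ≤ l} g → ∃ x ∈ L ls lm j, x.1 = g
  trans : ∀ k : Fin n, (k : ℕ) = j → ∀ v : V, Above j v → v ≠ 0 → ∃ x ∈ L ls lm j, ap x.1 (e k) = v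
  stab : ∀ i k : Fin n, (k : ℕ) = j → (i : ℕ) + 1 = j → ∀ x ∈ L ls lm j, ap x.1 (e k) = e k →
    ∀ g, Up i g → Commute x (lm i g)

variable {ls lm : Fin n → Sp n F → Sp n F × H}

theorem Above.single_e {j : ℕ} {k : Fin n} (hk : j ≤ (k : ℕ)) : Above j (e k : V) := fun l hl => by
  have : l ≠ k := fun h => by rw [h] at hl; omega
  simp [this]

theorem Above.single_f {j : ℕ} {k : Fin n} (hk : j ≤ (k : ℕ)) : Above j (f k : V) := fun l hl => by
  have : l ≠ k := fun h => by rw [h] at hl; omega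
  simp [this]

theorem Above.add {j : ℕ} {v w : V} (hv : Above j v) (hw : Above j w) : Above j (v + w) :=
  fun l hl => by simp [(hv l hl).1, (hv l hl).2, (hw l hl).1, (hw l hl).2]

theorem Above.smul {j : ℕ} {v : V} (hv : Above j v) (c : F) : Above j (c • v) :=
  fun l hl => by simp [(hv l hl).1, (hv l hl).2]

theorem Above.zero (j : ℕ) : Above j (0 : V) := fun _ _ => ⟨rfl, rfl⟩

theorem Above.B_e {j : ℕ} {v : V} (hv : Above j v) {l : Fin n} (hl : (l : ℕ) < j) :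
    B (e l) v = 0 ∧ B (f l) v = 0 ∧ B v (e l) = 0 ∧ B v (f l) = 0 := by
  rw [SpAmalgam.B_e, B_f, B_right_e, B_right_f, (hv l hl).1, (hv l hl).2]; simp

namespace Amal

variable (D : Amal ls lm)
include D

theorem ls_mul {k : Fin n} {g h : Sp n F} (hg : Pl k g) (hh : Pl k h) : ls k (g * h) = ls k g * ls k h := by
  obtain ⟨R, hR, h1, -⟩ := D.SS k k
  exact hR.eq (h1 _ (hg.mul hh)) (mul_mem (h1 _ hg) (h1 _ hh)) (by rw [Prod.fst_mul, D.ls_fst, D.ls_fst, D.ls_fst])

theorem ls_inv {k : Fin n} {g : Sp n F} (hg : Pl k g) : ls k g⁻¹ = (ls k g)⁻¹ := by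
  obtain ⟨R, hR, h1, -⟩ := D.SS k k
  exact hR.eq (h1 _ hg.inv) (inv_mem (h1 _ hg)) (by rw [Prod.fst_inv, D.ls_fst, D.ls_fst])

theorem ls_one (k : Fin n) : ls k 1 = 1 := by
  obtain ⟨R, hR, h1, -⟩ := D.SS k k
  exact hR _ (h1 _ (fun _ _ => ⟨ap_one _, ap_one _⟩)) (D.ls_fst k 1)

theorem agree {i k : Fin n} (hi : (i : ℕ) + 1 < n) {g : Sp n F} (hs : Pl k g) (hm : Up i g) :
    ls k g = lm i g := by
  obtain ⟨R, hR, h1, h2⟩ := D.MS i k hi
  exact hR.eq (h2 _ hs) (h1 _ hm) (by rw [D.ls_fst, D.lm_fst])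

theorem mem_L_ls {j : ℕ} {k : Fin n} (hk : j ≤ (k : ℕ)) {g : Sp n F} (hg : Pl k g) : ls k g ∈ L ls lm j :=
  Subgroup.subset_closure (Or.inl ⟨k, hk, g, hg, rfl⟩)

theorem mem_L_lm {j : ℕ} {k : Fin n} (hk : j ≤ (k : ℕ)) (hn : (k : ℕ) + 1 < n) {g : Sp n F} (hg : Up k g) :
    lm k g ∈ L ls lm j :=
  Subgroup.subset_closure (Or.inr ⟨k, hk, hn, g, hg, rfl⟩)

theorem supp_L {j : ℕ} {x : Sp n F × H} (hx : x ∈ L ls lm j) : Supp {l | j ≤ l} x.1 := by
  induction hx using Subgroup.closure_induction with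
  | mem y hy =>
    rcases hy with ⟨k, hk, g, hg, rfl⟩ | ⟨k, hk, -, g, hg, rfl⟩
    · rw [D.ls_fst]
      exact hg.supp.mono (by rintro _ rfl; exact hk)
    · rw [D.lm_fst]
      refine hg.supp.mono ?_
      rintro _ (rfl | rfl)
      · exact hk
      · exact Nat.le_succ_of_le hk
  | one => exact supp_one _
  | mul y z _ _ hy hz => exact hy.mul hz
  | inv y _ hy => exact hy.inv

theorem commute_L_ls {j : ℕ} {k : Fin n} (hk : (k : ℕ) < j) {g : Sp n F} (hg : Pl k g) {x : Sp n F × H}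
    (hx : x ∈ L ls lm j) : Commute x (ls k g) := by
  induction hx using Subgroup.closure_induction with
  | mem y hy =>
    rcases hy with ⟨l, hl, g', hg', rfl⟩ | ⟨l, hl, hln, g', hg', rfl⟩
    · obtain ⟨R, hR, h1, h2⟩ := D.SS l k
      refine hR.commute (h1 _ hg') (h2 _ hg) ?_
      rw [D.ls_fst, D.ls_fst]
      exact hg'.supp.commute hg.supp (by simp only [Set.mem_singleton_iff]; omega)
    · obtain ⟨R, hR, h1, h2⟩ := D.MS l k hln
      refine hR.commute (h1 _ hg') (h2 _ hg) ?_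
      rw [D.lm_fst, D.ls_fst]
      exact hg'.supp.commute hg.supp (by
        simp only [Set.mem_singleton_iff, Set.mem_insert_iff]; omega)
  | one => exact Commute.one_left _
  | mul y z _ _ hy hz => exact hy.mul_left hz
  | inv y _ hy => exact hy.inv_left

theorem commute_L_lm {j : ℕ} {i : Fin n} (hi : (i : ℕ) + 1 < n) (hij : (i : ℕ) + 2 ≤ j) {g : Sp n F}
    (hg : Up i g) {x : Sp n F × H} (hx : x ∈ L ls lm j) : Commute x (lm i g) := by
  induction hx using Subgroup.closure_induction with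
  | mem y hy =>
    rcases hy with ⟨l, hl, g', hg', rfl⟩ | ⟨l, hl, hln, g', hg', rfl⟩
    · obtain ⟨R, hR, h1, h2⟩ := D.MS i l hi
      refine hR.commute (h2 _ hg') (h1 _ hg) ?_
      rw [D.ls_fst, D.lm_fst]
      exact hg'.supp.commute hg.supp (by
        simp only [Set.mem_singleton_iff, Set.mem_insert_iff]; omega)
    · obtain ⟨R, hR, h1, h2⟩ := D.MM l i hln hi
      refine hR.commute (h1 _ hg') (h2 _ hg) ?_
      rw [D.lm_fst, D.lm_fst]
      exact hg'.commute hg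
  | one => exact Commute.one_left _
  | mul y z _ _ hy hz => exact hy.mul_left hz
  | inv y _ hy => exact hy.inv_left

theorem L_mono {j j' : ℕ} (h : j ≤ j') : L ls lm j' ≤ L ls lm j := by
  refine (Subgroup.closure_le _).2 ?_
  rintro _ (⟨k, hk, g, hg, rfl⟩ | ⟨k, hk, hn, g, hg, rfl⟩)
  · exact D.mem_L_ls (h.trans hk) hg
  · exact D.mem_L_lm (h.trans hk) hn hg

theorem map_above {j : ℕ} {x : Sp n F × H} (hx : x ∈ L ls lm j) {v : V} (hv : Above j v) :
    Above j (ap x.1 v) := fun l hl => by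
  obtain ⟨h1, h2⟩ := (D.supp_L hx).coord (l := l) (by simp; omega) v
  rw [h1, h2]; exact hv l hl

theorem fix_low {j : ℕ} {x : Sp n F × H} (hx : x ∈ L ls lm j) {k : Fin n} (hk : (k : ℕ) < j) :
    ap x.1 (e k) = e k ∧ ap x.1 (f k) = f k :=
  D.supp_L hx k (by simp; omega)

end Amal

end Cfsg.Agent.H68.SpAmalgam
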