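import Cfsg.Agent.H68.SpAmalgam.Step

/-!
The amalgamated group maps isomorphically onto the symplectic group.
-/

set_option autoImplicit false
set_option linter.unusedSectionVars false
set_option linter.unusedSimpArgs false

namespace Cfsg.Agent.H68.SpAmalgam

open Cfsg.Agent.Symplectic

attribute [-simp] spB_apply

variable {F : Type*} [Field F] {n : ℕ} {H : Type*} [Group H]

local notation "V" => (Fin n ⊕ Fin n → F)
local notation "B" => spB n F

variable {ls lm : Fin n → Sp n F → Sp n F × H}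

namespace Amal

variable (D : Amal ls lm) {k : Fin n} (IH : Good ls lm ((k : ℕ) + 1)) (ha : Orth ls lm)

theorem mem_L_of_succ (D : Amal ls lm) {k : Fin n} {l : Sp n F × H} (hl : l ∈ L ls lm ((k : ℕ) + 1)) :
    l ∈ L ls lm (k : ℕ) := D.L_mono (Nat.le_succ _) hl

theorem lb_mem_L (D : Amal ls lm) (k : Fin n) : lb ls k ∈ L ls lm (k : ℕ) :=
  D.mem_L_ls (k := k) le_rfl (pl_ew k 1)

theorem lx_mem_L (D : Amal ls lm) (k : Fin n) (z : F) : lx ls k z ∈ L ls lm (k : ℕ) :=
  D.mem_L_ls (k := k) le_rfl (pl_ex k z)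

theorem lh_mem_L (D : Amal ls lm) (k : Fin n) (t : F) : lh ls k t ∈ L ls lm (k : ℕ) :=
  D.mem_L_ls (k := k) le_rfl (pl_eh k t)

include D IH ha

omit ha in
theorem q_mem_L {w : V} (hw : Above ((k : ℕ) + 1) w) : q ls lm k w ∈ L ls lm (k : ℕ) := by
  by_cases h0 : w = 0
  · rw [h0, D.q_zero]; exact one_mem _
  obtain ⟨hk, l, hl, rfl⟩ := D.exists_l IH hw h0
  rw [D.q_eq IH hk hl]
  have hm : mm lm k 1 ∈ L ls lm (k : ℕ) := D.mem_L_lm (k := k) le_rfl hk (D.up_mm hk 1)
  exact mul_mem (mul_mem (D.mem_L_of_succ hl) hm) (inv_mem (D.mem_L_of_succ hl))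

omit ha in
theorem ap_q {w : V} (hw : Above ((k : ℕ) + 1) w) :
    ap (q ls lm k w).1 (e k) = e k ∧ ap (q ls lm k w).1 (f k) = f k + w := by
  obtain ⟨b1, b2, b3, b4⟩ := hw.B_e (Nat.lt_succ_self _)
  rw [D.q_fst IH hw]
  constructor
  · rw [ap_E b3, b1, B_self]; simp
  · rw [ap_E b3, b2, B_f]; simp

omit ha in
theorem ap_la (hk : (k : ℕ) + 1 < n) :
    ap (la ls lm k 1).1 (e k) = e k + en k := by
  obtain ⟨w1, w2⟩ := ap_ew (F := F) k (t := 1) one_ne_zero
  rw [one_smul] at w2
  have i1 : ap (ew k (1 : F))⁻¹ (e k) = f k := by rw [← w2, ap_inv_ap]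
  rw [la, Prod.fst_mul, Prod.fst_mul, Prod.fst_inv, D.fst_lb, ap_mul, ap_mul, i1,
    (D.ap_q IH ((above_en k).smul 1)).2, one_smul, map_add, w2,
    (pl_ew k 1).supp.fix fun i hi => (above_en k) i (by simp at hi; omega)]

omit ha in
theorem ap_P {p : Sp n F × H} {w : V} {z t : F} (hw : Above ((k : ℕ) + 1) w) (ht : t ≠ 0)
    {l : Sp n F × H} (hl : l ∈ L ls lm ((k : ℕ) + 1))
    (hp : p = q ls lm k w * lx ls k z * lh ls k t * l) :
    ap p.1 (e k) = t • e k ∧ ap p.1 (f k) = t⁻¹ • (f k + w + z • e k) := by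
  obtain ⟨l1, l2⟩ := D.fix_low hl (Nat.lt_succ_self (k : ℕ))
  obtain ⟨q1, q2⟩ := D.ap_q IH hw
  constructor
  · rw [hp, Prod.fst_mul, Prod.fst_mul, Prod.fst_mul, ap_mul, ap_mul, ap_mul, l1, D.fst_lh, (ap_eh k ht).1,
      map_smul, map_smul, D.fst_lx, ap_ex_e, q1]
  · rw [hp, Prod.fst_mul, Prod.fst_mul, Prod.fst_mul, ap_mul, ap_mul, ap_mul, l2, D.fst_lh, (ap_eh k ht).2,
      map_smul, map_smul, D.fst_lx, ap_ex_f, map_add, map_smul (ap (q ls lm k w).1), q1, q2]

theorem L_subset_K {x : Sp n F × H} (hx : x ∈ L ls lm (k : ℕ)) : InK ls lm k x := by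
  refine D.closure_subset_K IH ha ?_
  revert x
  show L ls lm (k : ℕ) ≤ Subgroup.closure (PSet ls lm k ∪ {lb ls k})
  set C := Subgroup.closure (PSet ls lm k ∪ {lb ls k})
  have hP : ∀ {p}, p ∈ PSet ls lm k → p ∈ C := fun hp => Subgroup.subset_closure (Or.inl hp)
  have hb : lb ls k ∈ C := Subgroup.subset_closure (Or.inr rfl)
  refine (Subgroup.closure_le _).2 ?_
  rintro _ (⟨l, hl, g, hg, rfl⟩ | ⟨l, hl, hln, g, hg, rfl⟩)
  · rcases eq_or_lt_of_le hl with h | h
    · obtain rfl : k = l := Fin.ext h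
      -- an element fixing `e_k` is a root element
      have fixe : ∀ g : Sp n F, Pl k g → ap g (e k) = e k → ls k g = lx ls k (ap g (f k) (Sum.inl k)) := by
        intro g hg hge
        refine D.ls_congr hg (pl_ex k _) (by rw [hge, ap_ex_e]) ?_
        rw [ap_ex_f]
        funext s
        rcases s with s | s
        · by_cases hs : s = k
          · subst hs; simp
          · rw [(hg.supp.coord (l := s) (by simp; exact fun h => hs (Fin.ext h)) _).1]; simp [hs]
        · by_cases hs : s = k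
          · subst hs
            have h1 := B_ap g (f s) (e s)
            rw [hge, B_right_e, B_right_e] at h1
            simp [h1]
          · rw [(hg.supp.coord (l := s) (by simp; exact fun h => hs (Fin.ext h)) _).2]; simp [hs]
      set α := ap g (e k) (Sum.inl k) with hαdef
      set γ := ap g (e k) (Sum.inr k) with hγdef
      have hgek : ap g (e k) = α • e k + γ • f k := by
        funext s
        rcases s with s | s <;> by_cases hs : s = k
        · subst hs; simp [α]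
        · rw [(hg.supp.coord (l := s) (by simp; exact fun h => hs (Fin.ext h)) _).1]; simp [hs]
        · subst hs; simp [γ]
        · rw [(hg.supp.coord (l := s) (by simp; exact fun h => hs (Fin.ext h)) _).2]; simp [hs]
      by_cases hγ : γ = 0
      · have hα : α ≠ 0 := fun hα => by
          rw [hα, hγ, zero_smul, zero_smul, add_zero] at hgek
          have := (ap g).injective (hgek.trans (map_zero _).symm)
          simpa using congrFun this (Sum.inl k)
        have hP1 : Pl k ((eh k α)⁻¹ * g) := (pl_eh k α).inv.mul hg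
        have h2 := fixe _ hP1 (by
          rw [ap_mul, hgek, hγ, zero_smul, add_zero, ← (ap_eh k hα).1, ap_inv_ap])
        rw [show g = eh k α * ((eh k α)⁻¹ * g) by group, D.ls_mul (pl_eh k α) hP1, h2]
        exact mul_mem (hP (D.lh_mem_P hα)) (hP (D.lx_mem_P _))
      · have hg0 : Pl k (ex k (α / γ) * ew k 1 * eh k (-γ) : Sp n F) :=
          ((pl_ex k _).mul (pl_ew k 1)).mul (pl_eh k _)
        set g₀ : Sp n F := ex k (α / γ) * ew k 1 * eh k (-γ) with hg₀
        have hP1 : Pl k (g₀⁻¹ * g) := hg0.inv.mul hg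
        have h0 : ap g₀ (e k) = ap g (e k) := by
          obtain ⟨w1, -⟩ := ap_ew (F := F) k (t := 1) one_ne_zero
          rw [hg₀, ap_mul, ap_mul, (ap_eh k (neg_ne_zero.2 hγ)).1, map_smul, map_smul, w1, map_smul, ap_ex_f,
            hgek, inv_one, smul_smul, smul_add, smul_smul, show -γ * -1 * (α / γ) = α by field_simp,
            show -γ * -1 = γ by ring, add_comm]
        have h2 := fixe _ hP1 (by rw [ap_mul, ← h0, ap_inv_ap])
        rw [show g = g₀ * (g₀⁻¹ * g) by group, D.ls_mul hg0 hP1, h2, hg₀,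
          D.ls_mul ((pl_ex k _).mul (pl_ew k 1)) (pl_eh k _), D.ls_mul (pl_ex k _) (pl_ew k 1)]
        exact mul_mem (mul_mem (mul_mem (hP (D.lx_mem_P _)) hb) (hP (D.lh_mem_P (neg_ne_zero.2 hγ))))
          (hP (D.lx_mem_P _))
    · exact hP (D.L_mem_P (D.mem_L_ls (j := (k : ℕ) + 1) (k := l) h hg))
  · rcases eq_or_lt_of_le hl with h | h
    · obtain rfl : k = l := Fin.ext h
      set j : Fin n := ⟨(k : ℕ) + 1, hln⟩
      obtain ⟨a, c, d, rfl⟩ := Up.decomp (j := j) rfl hg
      obtain ⟨R, hR, h1, -⟩ := D.MM k k hln hln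
      have hE : Up k (E (e k) (c • e j) : Sp n F) := up_E rfl c
      have hsplit : lm k (ex k a * E (e k) (c • e j) * ex j d) =
          lm k (ex k a) * lm k (E (e k) (c • e j)) * lm k (ex j d) :=
        hR.eq (h1 _ hg) (R.mul_mem (R.mul_mem (h1 _ (up_ex (Or.inl rfl) a)) (h1 _ hE))
          (h1 _ (up_ex (Or.inr rfl) d))) (by simp only [Prod.fst_mul, D.lm_fst])
      rw [hsplit, ← D.lx_eq_lm hln, ← D.agree hln (pl_ex j d) (up_ex (Or.inr rfl) d)]
      refine mul_mem (mul_mem (hP (D.lx_mem_P a)) (hP ?_))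
        (hP (D.L_mem_P (D.mem_L_ls (j := (k : ℕ) + 1) (k := j) (le_refl ((k : ℕ) + 1)) (pl_ex j d))))
      have := D.q_en IH hln c
      rw [mm, en_eq hln] at this
      rw [← this]
      exact D.q_mem_P IH ((Above.single_e (k := j) (le_refl ((k : ℕ) + 1))).smul c)
    · exact hP (D.L_mem_P (D.mem_L_lm (j := (k : ℕ) + 1) (k := l) h hln hg))

theorem inj_step : InjFst (L ls lm (k : ℕ)) := by
  intro x hx hx1
  have inP : ∀ p ∈ PSet ls lm k, p.1 = 1 → p = 1 := by
    rintro p ⟨w, z, t, hw, ht, l, hl, hp⟩ hp1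
    obtain ⟨e1, e2⟩ := D.ap_P IH hw ht hl hp
    rw [hp1, ap_one] at e1 e2
    have ht1 : t = 1 := by
      have := congrFun e1 (Sum.inl k)
      simpa using this.symm
    rw [ht1, inv_one, one_smul] at e2
    obtain ⟨h1, h2⟩ := hw k (Nat.lt_succ_self _)
    have hz : z = 0 := by
      have := congrFun e2 (Sum.inl k)
      simpa [h1] using this.symm
    have hw0 : w = 0 := by rw [hz, zero_smul, add_zero] at e2; simpa using e2.symm
    rw [hp, hz, hw0, ht1, D.q_zero, D.lx_zero, D.lh_one, one_mul, one_mul, one_mul] at hp1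
    rw [hp, hz, hw0, ht1, D.q_zero, D.lx_zero, D.lh_one, one_mul, one_mul, one_mul]
    exact IH.inj l hl hp1
  rcases D.L_subset_K IH ha hx with h | ⟨p, hp, p', hp', h⟩
  · exact inP x h hx1
  have key : ∀ y : Sp n F × H, x = p * y * p' → ∃ μ : F, ap y.1 (e k) = μ • e k := by
    intro y hy
    obtain ⟨w, z, t, hw, ht, l, hl, hpe⟩ := D.inv_mem_P IH ha hp
    obtain ⟨w', z', t', hw', ht', l', hl', hpe'⟩ := D.inv_mem_P IH ha hp'
    have e1 := (D.ap_P IH hw ht hl hpe).1
    have e2 := (D.ap_P IH hw' ht' hl' hpe').1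
    have hy1 : y.1 = (p⁻¹).1 * (p'⁻¹).1 := by
      rw [← Prod.fst_mul, show y = p⁻¹ * x * p'⁻¹ by rw [hy]; group, Prod.fst_mul, Prod.fst_mul, hx1, mul_one,
        ← Prod.fst_mul]
    exact ⟨t' * t, by rw [hy1, ap_mul, e2, map_smul, e1, smul_smul]⟩
  rcases h with h | h
  · obtain ⟨μ, hμ⟩ := key _ h
    rw [D.fst_lb, (ap_ew k one_ne_zero).1] at hμ
    exact absurd (congrFun hμ (Sum.inr k)) (by simp)
  · by_cases hk : (k : ℕ) + 1 < n
    · obtain ⟨μ, hμ⟩ := key _ h
      rw [D.ap_la IH hk, en_eq hk] at hμ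
      have := congrFun hμ (Sum.inl ⟨(k : ℕ) + 1, hk⟩)
      simp [Fin.ext_iff] at this
    · rw [D.la_eq_one IH hk, mul_one] at h
      exact inP x (h ▸ D.mul_mem_P IH ha hp hp') hx1

omit ha in
theorem trans_step (v : V) (hv : Above (k : ℕ) v) (hv0 : v ≠ 0) :
    ∃ x ∈ L ls lm (k : ℕ), ap x.1 (e k) = v := by
  set α := v (Sum.inl k) with hα
  set β := v (Sum.inr k) with hβ'
  set w := trunc ((k : ℕ) + 1) v with hw'
  have hw : Above ((k : ℕ) + 1) w := above_trunc _ _
  have hsum : v = α • e k + β • f k + w := by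
    funext s
    rcases s with s | s <;> rcases lt_trichotomy (s : ℕ) (k : ℕ) with h | h | h
    · simp [(hv s h).1, hw', trunc, Nat.lt_succ_of_lt h, show s ≠ k from fun e => by simp [e] at h]
    · obtain rfl : s = k := Fin.ext h
      simp [hw', trunc, α]
    · simp [hw', trunc, show ¬ (s : ℕ) < (k : ℕ) + 1 by omega, show ¬ s ≤ k from not_le.2 h, show s ≠ k from fun e => by simp [e] at h]
    · simp [(hv s h).2, hw', trunc, Nat.lt_succ_of_lt h, show s ≠ k from fun e => by simp [e] at h]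
    · obtain rfl : s = k := Fin.ext h
      simp [hw', trunc, β]
    · simp [hw', trunc, show ¬ (s : ℕ) < (k : ℕ) + 1 by omega, show ¬ s ≤ k from not_le.2 h, show s ≠ k from fun e => by simp [e] at h]
  by_cases hβ : β = 0
  swap
  · refine ⟨q ls lm k (β⁻¹ • w) * lx ls k (α / β) * lb ls k * lh ls k (-β),
      mul_mem (mul_mem (mul_mem (D.q_mem_L IH (hw.smul _)) (D.lx_mem_L k _)) (D.lb_mem_L k)) (D.lh_mem_L k _), ?_⟩
    obtain ⟨q1, q2⟩ := D.ap_q IH (hw.smul β⁻¹)
    rw [Prod.fst_mul, Prod.fst_mul, Prod.fst_mul, ap_mul, ap_mul, ap_mul, D.fst_lh, D.fst_lb, D.fst_lx,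
      (ap_eh k (neg_ne_zero.2 hβ)).1, map_smul, (ap_ew k one_ne_zero).1, inv_one, neg_one_smul, smul_neg,
      neg_smul, neg_neg, map_smul, ap_ex_f, map_smul, map_add, map_smul, q1, q2, hsum]
    match_scalars <;> field_simp
  rw [hβ, zero_smul, add_zero] at hsum
  by_cases hw0 : w = 0
  · rw [hw0, add_zero] at hsum
    have hα0 : α ≠ 0 := fun h => hv0 (by rw [hsum, h, zero_smul])
    exact ⟨lh ls k α, D.lh_mem_L k α, by rw [D.fst_lh, (ap_eh k hα0).1, hsum]⟩
  have hla : la ls lm k 1 ∈ L ls lm (k : ℕ) :=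
    mul_mem (mul_mem (D.lb_mem_L k) (D.q_mem_L IH ((above_en k).smul 1))) (inv_mem (D.lb_mem_L k))
  by_cases hα0 : α = 0
  · obtain ⟨hk, l, hl, hlw⟩ := D.exists_l IH hw hw0
    set j : Fin n := ⟨(k : ℕ) + 1, hk⟩
    have hfj : Above ((k : ℕ) + 1) (f j : V) := Above.single_f (k := j) (le_refl ((k : ℕ) + 1))
    refine ⟨l * q ls lm k (f j) * la ls lm k 1,
      mul_mem (mul_mem (D.mem_L_of_succ hl) (D.q_mem_L IH hfj)) hla, ?_⟩
    have hjk : j ≠ k := fun h => by rw [Fin.ext_iff] at h; simp [j] at h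
    rw [Prod.fst_mul, Prod.fst_mul, ap_mul, ap_mul, D.ap_la IH hk, en_eq hk, map_add, (D.ap_q IH hfj).1,
      D.q_fst IH hfj, ap_E (hfj.B_e (Nat.lt_succ_self _)).2.2.1, hsum, hα0, zero_smul, zero_add, ← hlw, en_eq hk]
    congr 1
    simp [B_e, B_f, B_right_f, hjk, Ne.symm hjk, j]
  · obtain ⟨hk, l, hl, hlw⟩ := D.exists_l IH hw hw0
    refine ⟨lh ls k α * (l * la ls lm k 1), mul_mem (D.lh_mem_L k α) (mul_mem (D.mem_L_of_succ hl) hla), ?_⟩
    rw [Prod.fst_mul, Prod.fst_mul, ap_mul, ap_mul, D.ap_la IH hk, map_add, (D.fix_low hl (Nat.lt_succ_self _)).1,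
      hlw, map_add, D.fst_lh, (ap_eh k hα0).1, hsum,
      (pl_eh k α).supp.fix fun i hi => hw i (by simp at hi; omega)]

omit ha in
theorem fix_e_step {g : Sp n F} (hg : Supp {l | (k : ℕ) ≤ l} g) (hge : ap g (e k) = e k) :
    ∃ w z l, Above ((k : ℕ) + 1) w ∧ l ∈ L ls lm ((k : ℕ) + 1) ∧ (q ls lm k w * lx ls k z * l).1 = g := by
  set v := ap g (f k) with hv
  have hvk : v (Sum.inr k) = 1 := by
    have h := B_ap g (f k) (e k)
    rw [hge, B_right_e, B_right_e] at h
    simpa using h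
  set w := trunc ((k : ℕ) + 1) v with hw'
  have hw : Above ((k : ℕ) + 1) w := above_trunc _ _
  set z := v (Sum.inl k) with hz
  have hsum : v = f k + w + z • e k := by
    funext s
    rcases s with s | s <;> rcases lt_trichotomy (s : ℕ) (k : ℕ) with h | h | h
    · have := (hg.coord (l := s) (by simp; omega) (f k)).1
      simp [hw', trunc, Nat.lt_succ_of_lt h, show s ≠ k from fun e => by simp [e] at h, hv, this]
    · obtain rfl : s = k := Fin.ext h
      simp [hw', trunc, hz]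
    · simp [hw', trunc, show ¬ (s : ℕ) < (k : ℕ) + 1 by omega, show ¬ s ≤ k from not_le.2 h, show s ≠ k from fun e => by simp [e] at h]
    · have := (hg.coord (l := s) (by simp; omega) (f k)).2
      simp [hw', trunc, Nat.lt_succ_of_lt h, show s ≠ k from fun e => by simp [e] at h, hv, this]
    · obtain rfl : s = k := Fin.ext h
      simp [hw', trunc, hvk]
    · simp [hw', trunc, show ¬ (s : ℕ) < (k : ℕ) + 1 by omega, show ¬ s ≤ k from not_le.2 h, show s ≠ k from fun e => by simp [e] at h]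
  have hP : q ls lm k w * lx ls k z ∈ L ls lm (k : ℕ) := mul_mem (D.q_mem_L IH hw) (D.lx_mem_L k z)
  obtain ⟨e1, e2⟩ := D.ap_P IH (p := q ls lm k w * lx ls k z) hw one_ne_zero
    (one_mem (L ls lm ((k : ℕ) + 1))) (by rw [D.lh_one, mul_one, mul_one])
  rw [inv_one, one_smul] at e2
  rw [one_smul] at e1
  set g₁ := ((q ls lm k w * lx ls k z).1)⁻¹ * g with hg₁
  have hs : Supp {l | (k : ℕ) + 1 ≤ l} g₁ := by
    intro l hl
    have hlk : (l : ℕ) ≤ (k : ℕ) := by simp at hl; omega
    rcases eq_or_lt_of_le hlk with h | h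
    · obtain rfl : l = k := Fin.ext h
      constructor
      · rw [hg₁, ap_mul, hge]; conv_lhs => rw [← e1]
        rw [ap_inv_ap]
      · rw [hg₁, ap_mul, ← hv, hsum, ← e2, ap_inv_ap]
    · exact ((D.supp_L hP).inv.mul hg) l (by simp; omega)
  obtain ⟨l, hl, hl1⟩ := IH.surj g₁ hs
  exact ⟨w, z, l, hw, hl, by rw [Prod.fst_mul, hl1, hg₁, mul_inv_cancel_left]⟩

theorem good_step : Good ls lm (k : ℕ) where
  inj := D.inj_step IH ha
  surj g hg := by
    have hv : Above (k : ℕ) (ap g (e k)) := fun l hl => by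
      have h := hg.coord (l := l) (by simp; omega) (e k)
      have hlk : l ≠ k := fun e => by rw [e] at hl; exact lt_irrefl _ hl
      simp [h, hlk]
    have hv0 : ap g (e k) ≠ 0 := fun h => by
      have := congrFun ((ap g).injective (h.trans (map_zero _).symm)) (Sum.inl k)
      simp at this
    obtain ⟨x, hx, hxe⟩ := D.trans_step IH _ hv hv0
    obtain ⟨w, z, l, hw, hl, hl1⟩ := D.fix_e_step IH (g := x.1⁻¹ * g) ((D.supp_L hx).inv.mul hg)
      (by rw [ap_mul, ← hxe, ap_inv_ap])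
    refine ⟨x * (q ls lm k w * lx ls k z * l), mul_mem hx (mul_mem (mul_mem (D.q_mem_L IH hw)
      (D.lx_mem_L k z)) (D.mem_L_of_succ hl)), ?_⟩
    rw [Prod.fst_mul, hl1, mul_inv_cancel_left]
  trans k' hk' := by
    obtain rfl : k' = k := Fin.ext hk'
    exact D.trans_step IH
  stab i k' hk' hik x hx hfix g hg := by
    obtain rfl : k' = k := Fin.ext hk'
    obtain ⟨w, z, l, hw, hl, hl1⟩ := D.fix_e_step IH (D.supp_L hx) hfix
    have hxe : x = q ls lm k' w * lx ls k' z * l := (D.inj_step IH ha).eq hx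
      (mul_mem (mul_mem (D.q_mem_L IH hw) (D.lx_mem_L k' z)) (D.mem_L_of_succ hl)) hl1.symm
    have hi : (i : ℕ) + 1 < n := by have := k'.2; omega
    have hq : Commute (q ls lm k' w) (lm i g) := by
      by_cases h0 : w = 0
      · rw [h0, D.q_zero]; exact Commute.one_left _
      obtain ⟨hk, l', hl', rfl⟩ := D.exists_l IH hw h0
      rw [D.q_eq IH hk hl']
      have hl'c : Commute l' (lm i g) := D.commute_L_lm hi (by omega) hg hl'
      have hm : Commute (mm lm k' 1) (lm i g) := by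
        obtain ⟨R, hR, h1, h2⟩ := D.MM k' i hk hi
        have hm1 : mm lm k' 1 ∈ R := h1 _ (D.up_mm hk 1)
        refine hR.commute hm1 (h2 _ hg) ?_
        rw [mm, D.lm_fst, D.lm_fst]
        exact (D.up_mm hk 1).commute hg
      exact (hl'c.mul_left hm).mul_left hl'c.inv_left
    have hx' : Commute (lx ls k' z) (lm i g) := by
      obtain ⟨R, hR, h1, h2⟩ := D.MS i k' hi
      have hm1 : lx ls k' z ∈ R := h2 _ (pl_ex k' z)
      refine hR.commute hm1 (h1 _ hg) ?_
      rw [D.fst_lx, D.lm_fst]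
      exact (up_ex (i := i) (Or.inr (by omega)) z).commute hg
    rw [hxe]
    exact (hq.mul_left hx').mul_left (D.commute_L_lm hi (by omega) hg hl)

omit IH in
theorem good (j : ℕ) : Good ls lm j := by
  suffices h : ∀ d j, n ≤ j + d → Good ls lm j from h n j (by omega)
  intro d
  induction d with
  | zero =>
    intro j hj
    have hL : L ls lm j = ⊥ := by
      rw [eq_bot_iff, L, Subgroup.closure_le]
      rintro x (⟨k, hk, -⟩ | ⟨k, hk, -⟩) <;> exact absurd k.2 (by omega)
    refine ⟨?_, fun g hg => ⟨1, one_mem _, ?_⟩, fun k hk => absurd k.2 (by omega),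
      fun i k hk => absurd k.2 (by omega)⟩
    · intro x hx _
      rw [hL] at hx
      exact Subgroup.mem_bot.1 hx
    · refine (ext_ap (fun l => ?_) fun l => ?_).symm <;>
        have h := hg l (by simp; have := l.2; omega)
      · rw [Prod.fst_one, ap_one, h.1]
      · rw [Prod.fst_one, ap_one, h.2]
  | succ d ih =>
    intro j hj
    by_cases hjn : j < n
    · exact D.good_step (k := ⟨j, hjn⟩) (ih (j + 1) (by omega)) ha
    · exact ih j (by omega)

end Amal

end Cfsg.Agent.H68.SpAmalgam
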