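import Cfsg.Agent.H68.SpAmalgam.Data

/-!
The unipotent radical of the stabiliser of the point `⟨e_k⟩` in the amalgamated group and the group
it generates with the torus and the smaller symplectic group.
-/

set_option autoImplicit false
set_option linter.unusedSectionVars false
set_option linter.unusedSimpArgs false
set_option maxHeartbeats 200000

namespace Cfsg.Agent.H68.SpAmalgam

open Cfsg.Agent.Symplectic

attribute [-simp] spB_apply

variable {F : Type*} [Field F] {n : ℕ} {H : Type*} [Group H]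

local notation "V" => (Fin n ⊕ Fin n → F)
local notation "B" => spB n F

/-- The next basis vector, if there is one. -/
def en (k : Fin n) : V := if h : (k : ℕ) + 1 < n then e ⟨(k : ℕ) + 1, h⟩ else 0

/-- Lift of a long root element. -/
def lx (ls : Fin n → Sp n F → Sp n F × H) (k : Fin n) (z : F) : Sp n F × H := ls k (ex k z)

/-- Lift of a torus element. -/
def lh (ls : Fin n → Sp n F → Sp n F × H) (k : Fin n) (t : F) : Sp n F × H := ls k (eh k t)

/-- Lift of the Weyl element. -/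
def lb (ls : Fin n → Sp n F → Sp n F × H) (k : Fin n) : Sp n F × H := ls k (ew k 1)

/-- Lift of the short root elements inside `M_k`. -/
def mm (lm : Fin n → Sp n F → Sp n F × H) (k : Fin n) (c : F) : Sp n F × H := lm k (E (e k) (c • en k))

open Classical in
/-- Lift of the short root elements `E e_k w`. -/
noncomputable def q (ls lm : Fin n → Sp n F → Sp n F × H) (k : Fin n) (w : V) : Sp n F × H :=
  if w = 0 then 1 else
    if h : ∃ l ∈ L ls lm ((k : ℕ) + 1), ap l.1 (en k) = w then h.choose * mm lm k 1 * h.choose⁻¹ else 1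

/-- The vector with the coordinates below `j` erased. -/
def trunc (j : ℕ) (v : V) : V :=
  Sum.elim (fun l : Fin n => if (l : ℕ) < j then 0 else v (Sum.inl l))
    (fun l : Fin n => if (l : ℕ) < j then 0 else v (Sum.inr l))

theorem above_trunc (j : ℕ) (v : V) : Above j (trunc j v) := fun l hl => by simp [trunc, hl]

theorem B_trunc {j : ℕ} {z : V} (hz : Above j z) (v : V) : B z (trunc j v) = B z v := by
  rw [spB_apply, spB_apply, sympForm_eq, sympForm_eq]
  refine Finset.sum_congr rfl fun l _ => ?_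
  by_cases hl : (l : ℕ) < j
  · rw [(hz l hl).1, (hz l hl).2]; ring
  · simp [trunc, hl]

theorem supp_Above_E {j : ℕ} {a u : V} (ha : Above j a) (hu : Above j u) :
    Supp {l | j ≤ l} (E a u : Sp n F) :=
  supp_E (fun l hl => ha l (by simpa using hl)) (fun l hl => hu l (by simpa using hl))

theorem above_en (k : Fin n) : Above ((k : ℕ) + 1) (en k : V) := by
  rw [en]; split
  · exact Above.single_e le_rfl
  · exact Above.zero _

theorem en_eq {k : Fin n} (h : (k : ℕ) + 1 < n) : (en k : V) = e ⟨(k : ℕ) + 1, h⟩ := dif_pos h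

/-- Either the field is large or one further relation holds at each level: the additivity of the short root
elements with orthogonal centres. -/
def Orth (ls lm : Fin n → Sp n F → Sp n F × H) : Prop :=
  (∃ a : F, a ≠ 0 ∧ a ≠ 1) ∨ ∀ (k : Fin n) (h : (k : ℕ) + 2 < n),
    ∃ l ∈ L ls lm ((k : ℕ) + 1), ∃ l' ∈ L ls lm ((k : ℕ) + 1),
      ap l.1 (en k) = en k + e ⟨(k : ℕ) + 2, h⟩ ∧ ap l'.1 (en k) = e ⟨(k : ℕ) + 2, h⟩ ∧
        mm lm k 1 * (l' * mm lm k 1 * l'⁻¹) = l * mm lm k 1 * l⁻¹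

/-- Orthogonal transvections move a vector to a non-orthogonal one. -/
theorem exists_supp_map {j : ℕ} {u w : V} (hu : Above j u) (hw : Above j w) (hu0 : u ≠ 0) (hw0 : w ≠ 0) :
    ∃ g : Sp n F, Supp {l | j ≤ l} g ∧ ap g u = w := by
  classical
  have step : ∀ a b : V, Above j a → Above j b → B a b ≠ 0 → ∃ g : Sp n F, Supp {l | j ≤ l} g ∧ ap g a = b := by
    intro a b ha hb hab
    refine ⟨T (b - a) (B a b)⁻¹, supp_T (fun l hl => ?_) _, ?_⟩
    · have hl' : (l : ℕ) < j := by simpa using hl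
      simp [ha l hl', hb l hl']
    · rw [ap_T, map_sub, B_self, sub_zero, inv_mul_cancel₀ hab, one_smul, add_sub_cancel]
  obtain ⟨y, hy⟩ : ∃ y : V, B u y ≠ 0 ∧ B w y ≠ 0 := by
    obtain ⟨y₁, h1⟩ := Cfsg.Agent.Symplectic.exists_apply_ne_zero (spB_nondeg n F) hu0
    obtain ⟨y₂, h2⟩ := Cfsg.Agent.Symplectic.exists_apply_ne_zero (spB_nondeg n F) hw0
    by_cases h3 : B w y₁ = 0
    swap
    · exact ⟨y₁, h1, h3⟩
    by_cases h4 : B u y₂ = 0
    swap
    · exact ⟨y₂, h4, h2⟩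
    exact ⟨y₁ + y₂, by rw [map_add, h4, add_zero]; exact h1, by rw [map_add, h3, zero_add]; exact h2⟩
  have h1 : B u (trunc j y) ≠ 0 := by rw [B_trunc hu]; exact hy.1
  have h2 : B (trunc j y) w ≠ 0 := by rw [B_swap, neg_ne_zero, B_trunc hw]; exact hy.2
  obtain ⟨g, hg, hgu⟩ := step _ _ hu (above_trunc j y) h1
  obtain ⟨g', hg', hgw⟩ := step _ _ (above_trunc j y) hw h2
  exact ⟨g' * g, hg'.mul hg, by rw [ap_mul, hgu, hgw]⟩

variable {ls lm : Fin n → Sp n F → Sp n F × H}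

namespace Amal

variable (D : Amal ls lm) {k : Fin n} (IH : Good ls lm ((k : ℕ) + 1))

theorem fst_lx (D : Amal ls lm) (k : Fin n) (z : F) : (lx ls k z).1 = ex k z := D.ls_fst _ _

theorem fst_lh (D : Amal ls lm) (k : Fin n) (t : F) : (lh ls k t).1 = eh k t := D.ls_fst _ _

theorem fst_lb (D : Amal ls lm) (k : Fin n) : (lb ls k).1 = ew k 1 := D.ls_fst _ _

theorem lx_add (D : Amal ls lm) (k : Fin n) (y z : F) : lx ls k (y + z) = lx ls k y * lx ls k z := by
  rw [lx, lx, lx, ← D.ls_mul (pl_ex k y) (pl_ex k z), ex, ex, ex, T_mul]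

theorem lx_zero (D : Amal ls lm) (k : Fin n) : lx ls k 0 = 1 := by rw [lx, ex, T_zero, D.ls_one]

theorem lx_neg (D : Amal ls lm) (k : Fin n) (z : F) : lx ls k (-z) = (lx ls k z)⁻¹ := by
  rw [eq_inv_iff_mul_eq_one, ← D.lx_add, neg_add_cancel, D.lx_zero]

theorem lx_commute (D : Amal ls lm) (k : Fin n) {l : Sp n F × H} (hl : l ∈ L ls lm ((k : ℕ) + 1)) (z : F) :
    Commute l (lx ls k z) := D.commute_L_ls (Nat.lt_succ_self _) (pl_ex k z) hl

theorem lh_commute (D : Amal ls lm) (k : Fin n) {l : Sp n F × H} (hl : l ∈ L ls lm ((k : ℕ) + 1)) (t : F) :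
    Commute l (lh ls k t) := D.commute_L_ls (Nat.lt_succ_self _) (pl_eh k t) hl

theorem lb_commute (D : Amal ls lm) (k : Fin n) {l : Sp n F × H} (hl : l ∈ L ls lm ((k : ℕ) + 1)) :
    Commute l (lb ls k) := D.commute_L_ls (Nat.lt_succ_self _) (pl_ew k 1) hl

theorem lx_eq_lm (D : Amal ls lm) {k : Fin n} (hk : (k : ℕ) + 1 < n) (z : F) : lx ls k z = lm k (ex k z) :=
  D.agree hk (pl_ex k z) (up_ex (Or.inl rfl) z)

theorem ls_congr (D : Amal ls lm) {k : Fin n} {g h : Sp n F} (hg : Pl k g) (hh : Pl k h)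
    (he : ap g (e k) = ap h (e k)) (hf : ap g (f k) = ap h (f k)) : ls k g = ls k h := by
  rw [ext_pl hg hh he hf]

include D IH

omit IH in
theorem eq_zero_of_last {w : V} (hk : ¬ (k : ℕ) + 1 < n) (hw : Above ((k : ℕ) + 1) w) : w = 0 := by
  have h : ∀ l : Fin n, (l : ℕ) < (k : ℕ) + 1 := fun l => by have := l.2; omega
  funext s
  rcases s with s | s
  · exact (hw s (h s)).1
  · exact (hw s (h s)).2

omit IH in
theorem en_ne_zero (hk : (k : ℕ) + 1 < n) : (en k : V) ≠ 0 := fun h => by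
  have := congrFun h (Sum.inl ⟨(k : ℕ) + 1, hk⟩)
  simp [en_eq hk] at this

omit IH in
theorem up_mm (hk : (k : ℕ) + 1 < n) (c : F) : Up k (E (e k) (c • en k) : Sp n F) := by
  rw [en_eq hk]; exact up_E rfl c

theorem commute_mm (hk : (k : ℕ) + 1 < n) {l : Sp n F × H} (hl : l ∈ L ls lm ((k : ℕ) + 1))
    (hfix : ap l.1 (en k) = en k) (c : F) : Commute l (mm lm k c) :=
  IH.stab k ⟨(k : ℕ) + 1, hk⟩ rfl rfl l hl (by rwa [← en_eq hk]) _ (D.up_mm hk c)

omit IH in
theorem q_zero : q ls lm k 0 = 1 := if_pos rfl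

theorem q_eq (hk : (k : ℕ) + 1 < n) {l : Sp n F × H} (hl : l ∈ L ls lm ((k : ℕ) + 1)) :
    q ls lm k (ap l.1 (en k)) = l * mm lm k 1 * l⁻¹ := by
  have hne : ap l.1 (en k) ≠ 0 := fun h => D.en_ne_zero hk ((ap l.1).injective (by rw [h, map_zero]))
  have hex : ∃ l' ∈ L ls lm ((k : ℕ) + 1), ap l'.1 (en k) = ap l.1 (en k) := ⟨l, hl, rfl⟩
  rw [q, if_neg hne, dif_pos hex]
  obtain ⟨hc, hce⟩ := hex.choose_spec
  have hcomm := D.commute_mm IH hk (mul_mem (inv_mem hl) hc)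
    (by rw [Prod.fst_mul, Prod.fst_inv, ap_mul, hce, ap_inv_ap]) 1
  calc hex.choose * mm lm k 1 * hex.choose⁻¹
      = l * ((l⁻¹ * hex.choose) * mm lm k 1) * hex.choose⁻¹ := by group
    _ = l * mm lm k 1 * l⁻¹ := by rw [hcomm.eq]; group

theorem exists_l {w : V} (hw : Above ((k : ℕ) + 1) w) (h0 : w ≠ 0) :
    ∃ (_ : (k : ℕ) + 1 < n), ∃ l ∈ L ls lm ((k : ℕ) + 1), ap l.1 (en k) = w := by
  by_cases hk : (k : ℕ) + 1 < n
  · obtain ⟨l, hl, hlw⟩ := IH.trans ⟨(k : ℕ) + 1, hk⟩ rfl w hw h0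
    exact ⟨hk, l, hl, by rw [en_eq hk]; exact hlw⟩
  · exact absurd (D.eq_zero_of_last hk hw) h0

theorem q_fst {w : V} (hw : Above ((k : ℕ) + 1) w) : (q ls lm k w).1 = E (e k) w := by
  by_cases h0 : w = 0
  · rw [h0, D.q_zero, E_zero]; rfl
  obtain ⟨hk, l, hl, rfl⟩ := D.exists_l IH hw h0
  rw [D.q_eq IH hk hl, Prod.fst_mul, Prod.fst_mul, Prod.fst_inv, mm, D.lm_fst, E_conj,
    (D.fix_low hl (Nat.lt_succ_self _)).1, one_smul]

theorem q_conj {l : Sp n F × H} (hl : l ∈ L ls lm ((k : ℕ) + 1)) {w : V} (hw : Above ((k : ℕ) + 1) w) :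
    l * q ls lm k w * l⁻¹ = q ls lm k (ap l.1 w) := by
  by_cases h0 : w = 0
  · rw [h0, map_zero, D.q_zero]; group
  obtain ⟨hk, l', hl', rfl⟩ := D.exists_l IH hw h0
  rw [← ap_mul, ← Prod.fst_mul, D.q_eq IH hk hl', D.q_eq IH hk (mul_mem hl hl')]
  group

theorem q_en (hk : (k : ℕ) + 1 < n) (c : F) : q ls lm k (c • en k) = mm lm k c := by
  by_cases hc : c = 0
  · obtain ⟨R, hR, h1, -⟩ := D.MM k k hk hk
    rw [hc, zero_smul, D.q_zero]
    exact (hR _ (h1 _ (D.up_mm hk 0)) (by rw [D.lm_fst, zero_smul, E_zero])).symm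
  set j : Fin n := ⟨(k : ℕ) + 1, hk⟩ with hj
  have hl : ls j (eh j c) ∈ L ls lm ((k : ℕ) + 1) := D.mem_L_ls (j := (k : ℕ) + 1) (k := j) (le_refl ((k : ℕ) + 1)) (pl_eh j c)
  have hv : ap (ls j (eh j c)).1 (en k) = c • en k := by
    rw [D.ls_fst, en_eq hk, ← hj, (ap_eh j hc).1]
  rw [← hv, D.q_eq IH hk hl]
  obtain ⟨R, hR, h1, h2⟩ := D.MS k j hk
  have hm : ∀ c, mm lm k c ∈ R := fun c => h1 _ (D.up_mm hk c)
  have hs : ls j (eh j c) ∈ R := h2 _ (pl_eh j c)
  refine hR.eq (R.mul_mem (R.mul_mem hs (hm 1)) (R.inv_mem hs)) (hm c) ?_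
  rw [Prod.fst_mul, Prod.fst_mul, Prod.fst_inv, mm, mm, D.lm_fst, D.ls_fst, D.lm_fst, E_conj, one_smul,
    ((pl_eh j c) k (fun h => by rw [Fin.ext_iff] at h; simp [hj] at h)).1]
  rw [D.ls_fst] at hv
  rw [hv]

theorem lx_q_commute {w : V} (hw : Above ((k : ℕ) + 1) w) (z : F) :
    Commute (lx ls k z) (q ls lm k w) := by
  by_cases h0 : w = 0
  · rw [h0, D.q_zero]; exact Commute.one_right _
  obtain ⟨hk, l, hl, rfl⟩ := D.exists_l IH hw h0
  rw [D.q_eq IH hk hl]
  have h1 : Commute (lx ls k z) (mm lm k 1) := by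
    obtain ⟨R, hR, hR1, -⟩ := D.MM k k hk hk
    rw [D.lx_eq_lm hk]
    have hm : mm lm k 1 ∈ R := hR1 _ (D.up_mm hk 1)
    refine hR.commute (hR1 _ (up_ex (Or.inl rfl) z)) hm ?_
    rw [mm, D.lm_fst, D.lm_fst]
    exact (up_ex (Or.inl rfl) z).commute (D.up_mm hk 1)
  exact ((D.lx_commute k hl z).symm.mul_right h1).mul_right (D.lx_commute k hl z).symm.inv_right

theorem q_mem_plane (hk : (k : ℕ) + 1 < n) {R : Subgroup (Sp n F × H)}
    (h1 : ∀ g, Up k g → lm k g ∈ R)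
    (h2 : ∀ g, Pl (⟨(k : ℕ) + 1, hk⟩ : Fin n) g → ls ⟨(k : ℕ) + 1, hk⟩ g ∈ R) (α β : F) :
    q ls lm k (α • e ⟨(k : ℕ) + 1, hk⟩ + β • f ⟨(k : ℕ) + 1, hk⟩) ∈ R := by
  set j : Fin n := ⟨(k : ℕ) + 1, hk⟩ with hj
  by_cases hβ : β = 0
  · rw [hβ, zero_smul, add_zero, hj, ← en_eq hk, D.q_en IH hk]
    exact h1 _ (D.up_mm hk α)
  set g : Sp n F := ex j (α / β) * ew j 1 * eh j (-β) with hg
  have hgP : Pl j g := ((pl_ex j _).mul (pl_ew j 1)).mul (pl_eh j _)
  have hl : ls j g ∈ L ls lm ((k : ℕ) + 1) := D.mem_L_ls (j := (k : ℕ) + 1) (k := j) (le_refl ((k : ℕ) + 1)) hgP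
  have hv : ap (ls j g).1 (en k) = α • e j + β • f j := by
    obtain ⟨w1, -⟩ := ap_ew (F := F) j (t := 1) one_ne_zero
    rw [D.ls_fst, en_eq hk, ← hj, hg, ap_mul, ap_mul, (ap_eh j (neg_ne_zero.2 hβ)).1, map_smul, map_smul,
      w1, map_smul, ap_ex_f, inv_one, smul_smul, smul_add, smul_smul]
    rw [show -β * -1 * (α / β) = α by field_simp, show -β * -1 = β by ring, add_comm]
  rw [← hv, D.q_eq IH hk hl]
  have hs : ls j g ∈ R := h2 g hgP
  have hm : mm lm k 1 ∈ R := h1 _ (D.up_mm hk 1)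
  exact R.mul_mem (R.mul_mem hs hm) (R.inv_mem hs)

/-- The multiplication law on a plane moved by an element of the smaller group. -/
theorem law_plane (hk : (k : ℕ) + 1 < n) {l : Sp n F × H} (hl : l ∈ L ls lm ((k : ℕ) + 1))
    {w w' : V} {α β α' β' : F}
    (hw : ap l.1 (α • e ⟨(k : ℕ) + 1, hk⟩ + β • f ⟨(k : ℕ) + 1, hk⟩) = w)
    (hw' : ap l.1 (α' • e ⟨(k : ℕ) + 1, hk⟩ + β' • f ⟨(k : ℕ) + 1, hk⟩) = w') :
    q ls lm k w * q ls lm k w' = q ls lm k (w + w') * lx ls k (B w' w) := by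
  set j : Fin n := ⟨(k : ℕ) + 1, hk⟩ with hj
  set p : V := α • e j + β • f j with hp
  set p' : V := α' • e j + β' • f j with hp'
  have hpA : ∀ a b : F, Above ((k : ℕ) + 1) (a • e j + b • f j : V) := fun a b =>
    ((Above.single_e (k := j) le_rfl).smul a).add ((Above.single_f (k := j) le_rfl).smul b)
  have key : q ls lm k p * q ls lm k p' = q ls lm k (p + p') * lx ls k (B p' p) := by
    obtain ⟨R, hR, h1, h2⟩ := D.MS k j hk
    refine hR.eq (mul_mem (D.q_mem_plane IH hk h1 h2 α β) (D.q_mem_plane IH hk h1 h2 α' β')) (mul_mem ?_ ?_) ?_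
    · rw [show p + p' = (α + α') • e j + (β + β') • f j by rw [hp, hp']; module]
      exact D.q_mem_plane IH hk h1 h2 _ _
    · rw [D.lx_eq_lm hk]; exact h1 _ (up_ex (Or.inl rfl) _)
    · rw [Prod.fst_mul, Prod.fst_mul, D.q_fst IH (hpA α β), D.q_fst IH (hpA α' β'),
        D.q_fst IH ((hpA α β).add (hpA α' β')), D.fst_lx, ex]
      exact E_add ((hpA α β).B_e (Nat.lt_succ_self _)).2.2.1 ((hpA α' β').B_e (Nat.lt_succ_self _)).2.2.1
  rw [← hw, ← hw', ← map_add, B_ap, ← D.q_conj IH hl (hpA α β), ← D.q_conj IH hl (hpA α' β'),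
    ← D.q_conj IH hl ((hpA α β).add (hpA α' β'))]
  calc l * q ls lm k p * l⁻¹ * (l * q ls lm k p' * l⁻¹) = l * (q ls lm k p * q ls lm k p') * l⁻¹ := by group
    _ = l * q ls lm k (p + p') * (lx ls k (B p' p) * l⁻¹) := by rw [key]; group
    _ = l * q ls lm k (p + p') * l⁻¹ * lx ls k (B p' p) := by
      rw [((D.lx_commute k hl _).inv_left).symm.eq]; group

theorem law_ne {w w' : V} (hw : Above ((k : ℕ) + 1) w) (hw' : Above ((k : ℕ) + 1) w') (h : B w' w ≠ 0) :
    q ls lm k w * q ls lm k w' = q ls lm k (w + w') * lx ls k (B w' w) := by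
  have h0 : w ≠ 0 := fun h0 => h (by rw [h0, map_zero])
  obtain ⟨hk, l, hl, hlw⟩ := D.exists_l IH hw h0
  set j : Fin n := ⟨(k : ℕ) + 1, hk⟩ with hj
  rw [en_eq hk, ← hj] at hlw
  set u := ap l.1⁻¹ w' with hu
  have huA : Above ((k : ℕ) + 1) u := D.map_above (inv_mem hl) hw'
  have hlu : ap l.1 u = w' := by rw [hu, ap_ap_inv]
  set α := u (Sum.inl j)
  set β := u (Sum.inr j)
  have hβ : β ≠ 0 := by
    rw [show β = B u (e j) from (B_right_e u j).symm]
    rwa [← B_ap l.1, hlu, hlw]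
  set u'' := u - α • e j - β • f j with hu''
  have hu2 : Above ((k : ℕ) + 1) (β⁻¹ • u'') := by
    refine Above.smul (fun i hi => ?_) _
    have hij : i ≠ j := fun e => by rw [e] at hi; simp [hj] at hi
    simp [hu'', huA i hi, hij]
  have hB : B (β⁻¹ • u'') (e j) = 0 := by simp [hu'', B_right_e, β]
  obtain ⟨l₁, hl₁, hl₁g⟩ := IH.surj (E (e j) (β⁻¹ • u'')) (supp_Above_E (Above.single_e le_rfl) hu2)
  refine D.law_plane IH hk (mul_mem hl hl₁) (α := 1) (β := 0) (α' := α) (β' := β) ?_ ?_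
  · rw [one_smul, zero_smul, add_zero, Prod.fst_mul, ap_mul, hl₁g, ap_E hB, B_self, B_swap, hB, neg_zero,
      zero_smul, zero_smul, add_zero, add_zero, hlw]
  · rw [← hlu, Prod.fst_mul, ap_mul]
    congr 1
    rw [hl₁g, map_add, map_smul, map_smul, ap_E hB, ap_E hB, B_self, B_swap (e j), hB, B_f, B_f]
    simp [hu'', ← hj, α, smul_smul, hβ]

theorem law (hx : Orth ls lm) {w w' : V} (hw : Above ((k : ℕ) + 1) w)
    (hw' : Above ((k : ℕ) + 1) w') :
    q ls lm k w * q ls lm k w' = q ls lm k (w + w') * lx ls k (B w' w) := by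
  classical
  by_cases hB : B w' w ≠ 0
  · exact D.law_ne IH hw hw' hB
  push Not at hB
  by_cases h0 : w = 0
  · rw [h0, map_zero, D.q_zero, D.lx_zero, zero_add, mul_one, one_mul]
  by_cases hpar : ∃ c : F, c • w = w'
  · obtain ⟨c, hc⟩ := hpar
    obtain ⟨hk, l, hl, hlw⟩ := D.exists_l IH hw h0
    rw [en_eq hk] at hlw
    refine D.law_plane IH hk hl (α := 1) (β := 0) (α' := c) (β' := 0) ?_ ?_
    · rw [one_smul, zero_smul, add_zero, hlw]
    · rw [zero_smul, add_zero, map_smul, hlw, hc]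
  by_cases ha : ∃ a : F, a ≠ 0 ∧ a ≠ 1
  swap
  · -- two elements: the extra relation
    obtain ⟨hk, l₀, hl₀, hlw⟩ := D.exists_l IH hw h0
    set u := ap l₀.1⁻¹ w' with hu
    have huA : Above ((k : ℕ) + 1) u := D.map_above (inv_mem hl₀) hw'
    have hlu : ap l₀.1 u = w' := by rw [hu, ap_ap_inv]
    set j : Fin n := ⟨(k : ℕ) + 1, hk⟩ with hj
    rw [en_eq hk, ← hj] at hlw
    have hur : u (Sum.inr j) = 0 := by rw [← B_right_e u j, ← B_ap l₀.1, hlu, hlw, hB]
    set α := u (Sum.inl j) with hα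
    set u'' := u - α • e j with hu''
    have hu2 : Above ((k : ℕ) + 2) u'' := by
      intro i hi
      rcases eq_or_ne i j with rfl | hij
      · simp [hu'', hur, α]
      · have : (i : ℕ) < (k : ℕ) + 1 := by
          rcases Nat.lt_succ_iff_lt_or_eq.1 hi with h | h
          · exact h
          · exact absurd (Fin.ext h) hij
        simp [hu'', huA i this, hij]
    have hu0 : u'' ≠ 0 := fun h => hpar ⟨α, by
      rw [← hlu, ← hlw, ← map_smul, sub_eq_zero.1 h]⟩
    have hk2 : (k : ℕ) + 2 < n := by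
      by_contra h
      refine hu0 (funext fun s => ?_)
      rcases s with s | s
      · exact (hu2 s (by have := s.2; omega)).1
      · exact (hu2 s (by have := s.2; omega)).2
    set j' : Fin n := ⟨(k : ℕ) + 2, hk2⟩ with hj'
    have hjj : j ≠ j' := fun h => by rw [Fin.ext_iff] at h; simp [hj, hj'] at h
    obtain ⟨g₁, hg₁, hg₁u⟩ := exists_supp_map (Above.single_e (k := j') (le_refl ((k : ℕ) + 2))) hu2
      (fun h => by simpa using congrFun h (Sum.inl j')) hu0
    have hg₁j : ap g₁ (e j) = e j := (hg₁ j (by simp [hj])).1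
    obtain ⟨y, hy⟩ := Cfsg.Agent.Symplectic.exists_partner (spB_nondeg n F) (spB_alt n F) hu0
    set y' := trunc ((k : ℕ) + 2) y with hy'
    have hy1 : B u'' y' = 1 := by rw [hy', B_trunc hu2, hy]
    have hy2 : B (e j : V) y' = 0 ∧ B y' (e j : V) = 0 :=
      ⟨((above_trunc _ y).B_e (l := j) (by simp [hj])).1, ((above_trunc _ y).B_e (l := j) (by simp [hj])).2.2.1⟩
    have hB2 : B (α • y') (e j : V) = 0 := by simp [hy2.2]
    obtain ⟨l₁, hl₁, hl₁g⟩ := IH.surj (E (e j) (α • y') * g₁)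
      ((supp_Above_E (Above.single_e (le_refl ((k : ℕ) + 1)))
        (Above.smul (fun i hi => above_trunc ((k : ℕ) + 2) y i (Nat.lt_succ_of_lt hi)) α)).mul
        (hg₁.mono fun i (hi : (k : ℕ) + 2 ≤ i) => show (k : ℕ) + 1 ≤ i by omega))
    have hv1 : ap l₁.1 (e j) = e j := by
      rw [hl₁g, ap_mul, hg₁j, ap_E hB2, B_self]; simp [hy2.1]
    have hv2 : ap l₁.1 (e j') = u := by
      rw [hl₁g, ap_mul, hg₁u, ap_E hB2, B_swap u'' (e j),
        (hu2.B_e (l := j) (by simp [hj])).1, map_smul, hy1, neg_zero, zero_smul, add_zero, smul_eq_mul,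
        mul_one, hu'']
      abel
    obtain ⟨l, hl, l', hl', e1, e2, hrel⟩ := hx.resolve_left ha k hk2
    rw [en_eq hk, ← hj, ← hj'] at e1
    rw [← hj'] at e2
    have hbase : q ls lm k (e j : V) * q ls lm k (e j') = q ls lm k (e j + e j') := by
      have q1 : q ls lm k (e j : V) = mm lm k 1 := by rw [hj, ← en_eq hk, ← D.q_en IH hk, one_smul]
      rw [q1, ← e1, ← e2]
      conv_rhs => rw [hj, ← en_eq hk, D.q_eq IH hk hl]
      rw [D.q_eq IH hk hl', hrel]
    have hlA : l₀ * l₁ ∈ L ls lm ((k : ℕ) + 1) := mul_mem hl₀ hl₁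
    have hAj : Above ((k : ℕ) + 1) (e j : V) := Above.single_e (le_refl ((k : ℕ) + 1))
    have hAj' : Above ((k : ℕ) + 1) (e j' : V) := Above.single_e (Nat.le_succ ((k : ℕ) + 1))
    have hm1 : ap (l₀ * l₁).1 (e j) = w := by rw [Prod.fst_mul, ap_mul, hv1, hlw]
    have hm2 : ap (l₀ * l₁).1 (e j') = w' := by rw [Prod.fst_mul, ap_mul, hv2, hlu]
    rw [hB, D.lx_zero, mul_one, ← hm1, ← hm2, ← map_add, ← D.q_conj IH hlA hAj, ← D.q_conj IH hlA hAj',
      ← D.q_conj IH hlA (hAj.add hAj'), ← hbase]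
    group
  obtain ⟨a, ha0, ha1⟩ := ha
  have hli : LinearIndependent F ![w, w'] :=
    (LinearIndependent.pair_iff' h0).2 fun c hc => hpar ⟨c, hc⟩
  let bs := Module.Basis.span hli
  obtain ⟨y, hy⟩ := Cfsg.Agent.Symplectic.exists_rep (spB_nondeg n F) (spB_alt n F)
    (Submodule.span F (Set.range ![w, w'])) (bs.constr F ![(-1 : F), a])
  set u := trunc ((k : ℕ) + 1) y with hu
  have e1 : B w u = -1 := by
    rw [hu, B_trunc hw]
    have := hy (bs 0)
    rwa [Module.Basis.constr_basis, Module.Basis.span_apply] at this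
  have e2 : B w' u = a := by
    rw [hu, B_trunc hw']
    have := hy (bs 1)
    rwa [Module.Basis.constr_basis, Module.Basis.span_apply] at this
  have huA : Above ((k : ℕ) + 1) u := above_trunc _ _
  set v := w' - u with hv
  have hvA : Above ((k : ℕ) + 1) v := by
    intro i hi; simp [hv, hw' i hi, huA i hi]
  have e3 : B u w = 1 := by rw [B_swap, e1, neg_neg]
  have e4 : B v u = a := by rw [hv, map_sub, LinearMap.sub_apply, e2, B_self, sub_zero]
  have e5 : B v (w + u) = a - 1 := by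
    rw [map_add, e4, hv, map_sub, LinearMap.sub_apply, hB, e3]; ring
  have l1 := D.law_ne IH hw huA (by rw [e3]; exact one_ne_zero)
  have l2 := D.law_ne IH huA hvA (by rw [e4]; exact ha0)
  have l3 := D.law_ne IH (hw.add huA) hvA (by rw [e5]; exact sub_ne_zero.2 ha1)
  have hsum : u + v = w' := by rw [hv]; abel
  have hsum' : w + u + v = w + w' := by rw [hv]; abel
  rw [hsum, e4] at l2
  rw [e3] at l1
  rw [hsum', e5] at l3
  have hq : q ls lm k w' = q ls lm k u * q ls lm k v * lx ls k (-a) := by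
    rw [l2, mul_assoc, ← D.lx_add, add_neg_cancel, D.lx_zero, mul_one]
  rw [hq, hB, D.lx_zero, mul_one]
  calc q ls lm k w * (q ls lm k u * q ls lm k v * lx ls k (-a))
      = q ls lm k w * q ls lm k u * q ls lm k v * lx ls k (-a) := by group
    _ = q ls lm k (w + u) * (lx ls k 1 * q ls lm k v) * lx ls k (-a) := by rw [l1]; group
    _ = q ls lm k (w + u) * q ls lm k v * lx ls k 1 * lx ls k (-a) := by
      rw [(D.lx_q_commute IH hvA 1).eq]; group
    _ = q ls lm k (w + w') := by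
      rw [l3, mul_assoc (q ls lm k (w + w')), ← D.lx_add, mul_assoc, ← D.lx_add,
        show a - 1 + 1 + -a = 0 by ring, D.lx_zero, mul_one]

theorem q_neg (ha : Orth ls lm) {w : V} (hw : Above ((k : ℕ) + 1) w) :
    q ls lm k (-w) = (q ls lm k w)⁻¹ := by
  have hn : Above ((k : ℕ) + 1) (-w) := by intro i hi; simp [hw i hi]
  rw [eq_inv_iff_mul_eq_one, D.law IH ha hn hw, neg_add_cancel, D.q_zero, map_neg, B_self, neg_zero,
    D.lx_zero, one_mul]

theorem lh_q {t : F} (ht : t ≠ 0) {w : V} (hw : Above ((k : ℕ) + 1) w) :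
    lh ls k t * q ls lm k w * (lh ls k t)⁻¹ = q ls lm k (t • w) := by
  by_cases h0 : w = 0
  · rw [h0, smul_zero, D.q_zero]; group
  obtain ⟨hk, l, hl, rfl⟩ := D.exists_l IH hw h0
  rw [D.q_eq IH hk hl, ← map_smul, ← D.q_conj IH hl ((above_en k).smul t), D.q_en IH hk]
  have hb : lh ls k t * mm lm k 1 * (lh ls k t)⁻¹ = mm lm k t := by
    obtain ⟨R, hR, h1, h2⟩ := D.MS k k hk
    have hm : ∀ c, mm lm k c ∈ R := fun c => h1 _ (D.up_mm hk c)
    have hs : lh ls k t ∈ R := h2 _ (pl_eh k t)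
    refine hR.eq (R.mul_mem (R.mul_mem hs (hm 1)) (R.inv_mem hs)) (hm t) ?_
    rw [Prod.fst_mul, Prod.fst_mul, Prod.fst_inv, mm, mm, D.lm_fst, D.lm_fst, D.fst_lh, E_conj,
      (ap_eh k ht).1, one_smul, E_smul]
    · congr 2
      exact (pl_eh k t).supp.fix fun i hi => (above_en k) i (by simp at hi; omega)
    · rw [(pl_eh k t).supp.fix fun i hi => (above_en k) i (by simp at hi; omega)]
      exact ((above_en k).B_e (Nat.lt_succ_self _)).2.2.1
  rw [← hb, show lh ls k t * (l * mm lm k 1 * l⁻¹) * (lh ls k t)⁻¹ =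
    (lh ls k t * l) * mm lm k 1 * (lh ls k t * l)⁻¹ by group, (D.lh_commute k hl t).symm.eq]
  group

end Amal

end Cfsg.Agent.H68.SpAmalgam
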