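import Cfsg.Agent.H68.SpAmalgam.Radical

/-!
The double coset decomposition with respect to the stabiliser of `⟨e_k⟩`, and the induction showing
that the amalgamated group is the symplectic group.
-/

set_option autoImplicit false
set_option linter.unusedSectionVars false
set_option linter.unusedSimpArgs false

namespace Cfsg.Agent.H68.SpAmalgam

open Cfsg.Agent.Symplectic

attribute [-simp] spB_apply

variable {F : Type*} [Field F] {n : ℕ} {H : Type*} [Group H]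

local notation "V" => (Fin n ⊕ Fin n → F)
local notation "B" => spB n F

/-- The stabiliser of the point `⟨e_k⟩`, as a set. -/
def PSet (ls lm : Fin n → Sp n F → Sp n F × H) (k : Fin n) : Set (Sp n F × H) :=
  {p | ∃ (w : V) (z t : F), Above ((k : ℕ) + 1) w ∧ t ≠ 0 ∧
    ∃ l ∈ L ls lm ((k : ℕ) + 1), p = q ls lm k w * lx ls k z * lh ls k t * l}

/-- A conjugate of a short root element mapping `e_k` to `e_k + c e_{k+1}`. -/
noncomputable def la (ls lm : Fin n → Sp n F → Sp n F × H) (k : Fin n) (c : F) : Sp n F × H :=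
  lb ls k * q ls lm k (c • en k) * (lb ls k)⁻¹

/-- The three double cosets. -/
def InK (ls lm : Fin n → Sp n F → Sp n F × H) (k : Fin n) (x : Sp n F × H) : Prop :=
  x ∈ PSet ls lm k ∨ ∃ p ∈ PSet ls lm k, ∃ p' ∈ PSet ls lm k,
    x = p * lb ls k * p' ∨ x = p * la ls lm k 1 * p'

variable {ls lm : Fin n → Sp n F → Sp n F × H}

namespace Amal

variable (D : Amal ls lm) {k : Fin n} (IH : Good ls lm ((k : ℕ) + 1))

theorem lh_mul (D : Amal ls lm) (k : Fin n) {s t : F} (hs : s ≠ 0) (ht : t ≠ 0) :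
    lh ls k s * lh ls k t = lh ls k (s * t) := by
  rw [lh, lh, lh, ← D.ls_mul (pl_eh k s) (pl_eh k t)]
  refine D.ls_congr ((pl_eh k s).mul (pl_eh k t)) (pl_eh k _) ?_ ?_
  · rw [ap_mul, (ap_eh k ht).1, map_smul, (ap_eh k hs).1, (ap_eh k (mul_ne_zero hs ht)).1, smul_smul, mul_comm]
  · rw [ap_mul, (ap_eh k ht).2, map_smul, (ap_eh k hs).2, (ap_eh k (mul_ne_zero hs ht)).2, smul_smul, mul_inv]
    rw [mul_comm]

theorem lh_one (D : Amal ls lm) (k : Fin n) : lh ls k (1 : F) = 1 :=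
  mul_eq_left.1 (by rw [D.lh_mul k one_ne_zero one_ne_zero, mul_one] :
    lh ls k (1 : F) * lh ls k 1 = lh ls k 1)

theorem lh_inv (D : Amal ls lm) (k : Fin n) {t : F} (ht : t ≠ 0) : (lh ls k t)⁻¹ = lh ls k t⁻¹ :=
  inv_eq_of_mul_eq_one_right (by rw [D.lh_mul k ht (inv_ne_zero ht), mul_inv_cancel₀ ht, D.lh_one])

theorem lh_lx (D : Amal ls lm) (k : Fin n) {t : F} (ht : t ≠ 0) (z : F) :
    lh ls k t * lx ls k z * (lh ls k t)⁻¹ = lx ls k (t ^ 2 * z) := by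
  rw [D.lh_inv k ht, lh, lx, lh, lx, ← D.ls_mul (pl_eh k t) (pl_ex k z),
    ← D.ls_mul ((pl_eh k t).mul (pl_ex k z)) (pl_eh k t⁻¹)]
  refine D.ls_congr (((pl_eh k t).mul (pl_ex k z)).mul (pl_eh k t⁻¹)) (pl_ex k _) ?_ ?_
  · rw [ap_mul, ap_mul, (ap_eh k (inv_ne_zero ht)).1, map_smul, ap_ex_e, map_smul, (ap_eh k ht).1, ap_ex_e,
      smul_smul, inv_mul_cancel₀ ht, one_smul]
  · rw [ap_mul, ap_mul, (ap_eh k (inv_ne_zero ht)).2, map_smul, ap_ex_f, map_smul, map_add, map_smul,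
      (ap_eh k ht).1, (ap_eh k ht).2, ap_ex_f, inv_inv, smul_add, smul_smul, smul_smul, smul_smul,
      mul_inv_cancel₀ ht, one_smul]
    congr 2; ring

theorem lb_sq (D : Amal ls lm) (k : Fin n) : lb ls k * lb ls k = lh ls k (-1 : F) := by
  obtain ⟨w1, w2⟩ := ap_ew (F := F) k (t := 1) one_ne_zero
  rw [inv_one, neg_one_smul] at w1
  rw [one_smul] at w2
  rw [lb, lh, ← D.ls_mul (pl_ew k 1) (pl_ew k 1)]
  refine D.ls_congr ((pl_ew k 1).mul (pl_ew k 1)) (pl_eh k _) ?_ ?_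
  · rw [ap_mul, w1, map_neg, w2, (ap_eh k (neg_ne_zero.2 one_ne_zero)).1, neg_one_smul]
  · rw [ap_mul, w2, w1, (ap_eh k (neg_ne_zero.2 one_ne_zero)).2, inv_neg, inv_one, neg_one_smul]

theorem lb_inv (D : Amal ls lm) (k : Fin n) : (lb ls k)⁻¹ = lb ls k * lh ls k (-1 : F) := by
  refine inv_eq_of_mul_eq_one_right ?_
  rw [← mul_assoc, D.lb_sq, D.lh_mul k (neg_ne_zero.2 one_ne_zero) (neg_ne_zero.2 one_ne_zero), neg_mul_neg,
    one_mul, D.lh_one]

theorem lb_lh (D : Amal ls lm) (k : Fin n) {t : F} (ht : t ≠ 0) :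
    lb ls k * lh ls k t = lh ls k t⁻¹ * lb ls k := by
  obtain ⟨w1, w2⟩ := ap_ew (F := F) k (t := 1) one_ne_zero
  rw [inv_one, neg_one_smul] at w1
  rw [one_smul] at w2
  rw [lb, lh, lh, ← D.ls_mul (pl_ew k 1) (pl_eh k t), ← D.ls_mul (pl_eh k t⁻¹) (pl_ew k 1)]
  refine D.ls_congr ((pl_ew k 1).mul (pl_eh k t)) ((pl_eh k _).mul (pl_ew k 1)) ?_ ?_
  · rw [ap_mul, ap_mul, (ap_eh k ht).1, map_smul, w1, map_neg, (ap_eh k (inv_ne_zero ht)).2, inv_inv, smul_neg]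
  · rw [ap_mul, ap_mul, (ap_eh k ht).2, map_smul, w2, (ap_eh k (inv_ne_zero ht)).1]

theorem lb_lx_lb (D : Amal ls lm) (k : Fin n) {z : F} (hz : z ≠ 0) :
    lb ls k * lx ls k z * lb ls k = lx ls k (-z⁻¹) * lb ls k * lh ls k (-z) * lx ls k (-z⁻¹) := by
  obtain ⟨w1, w2⟩ := ap_ew (F := F) k (t := 1) one_ne_zero
  rw [inv_one, neg_one_smul] at w1
  rw [one_smul] at w2
  rw [lb, lx, lx, lh, ← D.ls_mul (pl_ew k 1) (pl_ex k z),
    ← D.ls_mul ((pl_ew k 1).mul (pl_ex k z)) (pl_ew k 1), ← D.ls_mul (pl_ex k _) (pl_ew k 1),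
    ← D.ls_mul ((pl_ex k _).mul (pl_ew k 1)) (pl_eh k _),
    ← D.ls_mul (((pl_ex k _).mul (pl_ew k 1)).mul (pl_eh k _)) (pl_ex k _)]
  refine D.ls_congr (((pl_ew k 1).mul (pl_ex k z)).mul (pl_ew k 1))
    ((((pl_ex k _).mul (pl_ew k 1)).mul (pl_eh k _)).mul (pl_ex k _)) ?_ ?_
  · simp only [ap_mul, ap_ex_e, ap_ex_f, map_neg, map_add, map_smul, w1, w2, (ap_eh k (neg_ne_zero.2 hz)).1,
      smul_neg, smul_add, smul_smul]
    match_scalars <;> field_simp <;> ring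
  · simp only [ap_mul, ap_ex_e, ap_ex_f, map_neg, map_add, map_smul, w1, w2, (ap_eh k (neg_ne_zero.2 hz)).1,
      (ap_eh k (neg_ne_zero.2 hz)).2, smul_neg, smul_add, smul_smul]
    match_scalars <;> field_simp <;> ring

include D IH

omit IH in
theorem one_mem_P : (1 : Sp n F × H) ∈ PSet ls lm k :=
  ⟨0, 0, 1, Above.zero _, one_ne_zero, 1, one_mem _, by rw [D.q_zero, D.lx_zero, D.lh_one]; simp⟩

variable (ha : Orth ls lm)
include ha

theorem mul_mem_P {p p' : Sp n F × H} (hp : p ∈ PSet ls lm k) (hp' : p' ∈ PSet ls lm k) :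
    p * p' ∈ PSet ls lm k := by
  obtain ⟨w, z, t, hw, ht, l, hl, rfl⟩ := hp
  obtain ⟨w', z', t', hw', ht', l', hl', rfl⟩ := hp'
  have hv := D.map_above hl hw'
  refine ⟨w + t • ap l.1 w', B (t • ap l.1 w') w + z + t ^ 2 * z', t * t', hw.add (hv.smul t),
    mul_ne_zero ht ht', l * l', mul_mem hl hl', ?_⟩
  have c1 : l * q ls lm k w' = q ls lm k (ap l.1 w') * l := by
    rw [← D.q_conj IH hl hw']; group
  have c2 : lh ls k t * q ls lm k (ap l.1 w') = q ls lm k (t • ap l.1 w') * lh ls k t := by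
    rw [← D.lh_q IH ht hv]; group
  have c3 : lh ls k t * lx ls k z' = lx ls k (t ^ 2 * z') * lh ls k t := by
    rw [← D.lh_lx k ht z']; group
  calc q ls lm k w * lx ls k z * lh ls k t * l * (q ls lm k w' * lx ls k z' * lh ls k t' * l')
      = q ls lm k w * lx ls k z * lh ls k t * (l * q ls lm k w') * lx ls k z' * lh ls k t' * l' := by group
    _ = q ls lm k w * lx ls k z * lh ls k t * q ls lm k (ap l.1 w') * (l * lx ls k z') * lh ls k t' * l' := by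
      rw [c1]; group
    _ = q ls lm k w * lx ls k z * lh ls k t * q ls lm k (ap l.1 w') * lx ls k z' * (l * lh ls k t') * l' := by
      rw [(D.lx_commute k hl z').eq]; group
    _ = q ls lm k w * lx ls k z * (lh ls k t * q ls lm k (ap l.1 w')) * lx ls k z' * lh ls k t' * (l * l') := by
      rw [(D.lh_commute k hl t').eq]; group
    _ = q ls lm k w * (lx ls k z * q ls lm k (t • ap l.1 w')) * (lh ls k t * lx ls k z') * lh ls k t' * (l * l') := by
      rw [c2]; group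
    _ = q ls lm k w * q ls lm k (t • ap l.1 w') * lx ls k z * lx ls k (t ^ 2 * z') * (lh ls k t * lh ls k t') *
        (l * l') := by
      rw [(D.lx_q_commute IH (hv.smul t) z).eq, c3]; group
    _ = _ := by
      rw [D.law IH ha hw (hv.smul t), D.lh_mul k ht ht', D.lx_add, D.lx_add]; group

theorem inv_mem_P {p : Sp n F × H} (hp : p ∈ PSet ls lm k) : p⁻¹ ∈ PSet ls lm k := by
  obtain ⟨w, z, t, hw, ht, l, hl, rfl⟩ := hp
  rw [mul_inv_rev, mul_inv_rev, mul_inv_rev, D.lh_inv k ht, ← D.lx_neg, ← D.q_neg IH ha hw]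
  have hn : Above ((k : ℕ) + 1) (-w) := by intro i hi; simp [hw i hi]
  refine D.mul_mem_P IH ha ?_ (D.mul_mem_P IH ha ?_ (D.mul_mem_P IH ha ?_ ?_))
  · exact ⟨0, 0, 1, Above.zero _, one_ne_zero, l⁻¹, inv_mem hl, by rw [D.q_zero, D.lx_zero, D.lh_one]; simp⟩
  · exact ⟨0, 0, t⁻¹, Above.zero _, inv_ne_zero ht, 1, one_mem _, by rw [D.q_zero, D.lx_zero]; simp⟩
  · exact ⟨0, -z, 1, Above.zero _, one_ne_zero, 1, one_mem _, by rw [D.q_zero, D.lh_one]; simp⟩
  · exact ⟨-w, 0, 1, hn, one_ne_zero, 1, one_mem _, by rw [D.lx_zero, D.lh_one]; simp⟩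

omit ha in
theorem q_mem_P {w : V} (hw : Above ((k : ℕ) + 1) w) : q ls lm k w ∈ PSet ls lm k :=
  ⟨w, 0, 1, hw, one_ne_zero, 1, one_mem _, by rw [D.lx_zero, D.lh_one]; simp⟩

omit IH ha in
theorem lx_mem_P (z : F) : lx ls k z ∈ PSet ls lm k :=
  ⟨0, z, 1, Above.zero _, one_ne_zero, 1, one_mem _, by rw [D.q_zero, D.lh_one]; simp⟩

omit IH ha in
theorem lh_mem_P {t : F} (ht : t ≠ 0) : lh ls k t ∈ PSet ls lm k :=
  ⟨0, 0, t, Above.zero _, ht, 1, one_mem _, by rw [D.q_zero, D.lx_zero]; simp⟩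

omit IH ha in
theorem L_mem_P {l : Sp n F × H} (hl : l ∈ L ls lm ((k : ℕ) + 1)) : l ∈ PSet ls lm k :=
  ⟨0, 0, 1, Above.zero _, one_ne_zero, l, hl, by rw [D.q_zero, D.lx_zero, D.lh_one]; simp⟩

theorem K_mul_left {p x : Sp n F × H} (hp : p ∈ PSet ls lm k) (hx : InK ls lm k x) : InK ls lm k (p * x) := by
  rcases hx with hx | ⟨p₁, hp₁, p₂, hp₂, h | h⟩
  · exact Or.inl (D.mul_mem_P IH ha hp hx)
  · exact Or.inr ⟨p * p₁, D.mul_mem_P IH ha hp hp₁, p₂, hp₂, Or.inl (by rw [h]; group)⟩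
  · exact Or.inr ⟨p * p₁, D.mul_mem_P IH ha hp hp₁, p₂, hp₂, Or.inr (by rw [h]; group)⟩

theorem K_mul_right {p x : Sp n F × H} (hp : p ∈ PSet ls lm k) (hx : InK ls lm k x) : InK ls lm k (x * p) := by
  rcases hx with hx | ⟨p₁, hp₁, p₂, hp₂, h | h⟩
  · exact Or.inl (D.mul_mem_P IH ha hx hp)
  · exact Or.inr ⟨p₁, hp₁, p₂ * p, D.mul_mem_P IH ha hp₂ hp, Or.inl (by rw [h]; group)⟩
  · exact Or.inr ⟨p₁, hp₁, p₂ * p, D.mul_mem_P IH ha hp₂ hp, Or.inr (by rw [h]; group)⟩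

omit ha in
theorem la_eq_one (hk : ¬ (k : ℕ) + 1 < n) (c : F) : la ls lm k c = 1 := by
  rw [la, en, dif_neg hk, smul_zero, D.q_zero]; group

theorem la_neg (c : F) : la ls lm k (-c) = (la ls lm k c)⁻¹ := by
  rw [la, la, neg_smul, D.q_neg IH ha ((above_en k).smul c)]; group

theorem la_shift (u c : F) : ∃ p ∈ PSet ls lm k, lx ls k u * la ls lm k c = la ls lm k c * p := by
  by_cases hk : (k : ℕ) + 1 < n
  swap
  · exact ⟨lx ls k u, D.lx_mem_P u, by rw [D.la_eq_one IH hk]; group⟩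
  set j : Fin n := ⟨(k : ℕ) + 1, hk⟩ with hj
  have hjk : j ≠ k := fun h => by rw [Fin.ext_iff] at h; simp [hj] at h
  refine ⟨lx ls k u * q ls lm k (-(u * c) • en k) * ls j (ex j (u * c ^ 2)),
    D.mul_mem_P IH ha (D.mul_mem_P IH ha (D.lx_mem_P u) (D.q_mem_P IH ((above_en k).smul _)))
      (D.L_mem_P (D.mem_L_ls (j := (k : ℕ) + 1) (k := j) (le_refl ((k : ℕ) + 1)) (pl_ex j _))), ?_⟩
  obtain ⟨R, hR, h1, h2⟩ := D.MS k k hk
  have hb : lb ls k ∈ R := h2 _ (pl_ew k 1)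
  have hx : lx ls k u ∈ R := h2 _ (pl_ex k u)
  have hm : ∀ d : F, q ls lm k (d • en k) ∈ R := fun d => by
    rw [D.q_en IH hk]; exact h1 _ (D.up_mm hk d)
  have hj' : ls j (ex j (u * c ^ 2)) ∈ R := by
    rw [D.agree hk (pl_ex j _) (up_ex (Or.inr rfl) _)]; exact h1 _ (up_ex (Or.inr rfl) _)
  have hA : la ls lm k c ∈ R := R.mul_mem (R.mul_mem hb (hm c)) (R.inv_mem hb)
  refine hR.eq (R.mul_mem hx hA) (R.mul_mem hA (R.mul_mem (R.mul_mem hx (hm _)) hj')) ?_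
  obtain ⟨w1, w2⟩ := ap_ew (F := F) k (t := 1) one_ne_zero
  rw [inv_one, neg_one_smul] at w1
  have hwj : ap (ew k (1 : F)) (e j) = e j := ((pl_ew k 1) j hjk).1
  have hA1 : (la ls lm k c).1 = E (-f k) (c • e j) := by
    rw [la, Prod.fst_mul, Prod.fst_mul, Prod.fst_inv, D.fst_lb, D.q_fst IH ((above_en k).smul c), E_conj,
      w1, map_smul, en_eq hk, hwj]
  have hAw : ap (la ls lm k c).1 (e k - c • e j) = e k := by
    rw [hA1, ap_E (by simp [B_right_f, hjk, Ne.symm hjk])]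
    simp [B_right_f, B_e, hjk, Ne.symm hjk]
  have key : ex k u * (la ls lm k c).1 = (la ls lm k c).1 * T (e k - c • e j) u := by
    have hT := T_conj (la ls lm k c).1 (e k - c • e j) u
    rw [← ap_eq, hAw] at hT
    rw [ex, ← hT]
    group
  rw [Prod.fst_mul, Prod.fst_mul, Prod.fst_mul, Prod.fst_mul, D.fst_lx, key,
    D.q_fst IH ((above_en k).smul _), D.ls_fst]
  congr 1
  refine sp_ext fun x => ?_
  rw [← ap_eq, ← ap_eq, ap_mul, ap_mul, ex, ex, ap_T, ap_T, ap_E (by simp [en_eq hk, B_e, B_right_e]), ap_T]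
  simp only [map_add, map_sub, map_smul, LinearMap.add_apply, LinearMap.sub_apply, LinearMap.smul_apply,
    smul_eq_mul, B_self, en_eq hk, ← hj, show B (e j) (e k) = 0 by simp [B_e],
    show B (e k) (e j) = 0 by simp [B_e]]
  module

theorem b_qx_b {w : V} (hw : Above ((k : ℕ) + 1) w) {z : F} (hz : z ≠ 0) :
    ∃ p ∈ PSet ls lm k, ∃ p' ∈ PSet ls lm k,
      lb ls k * (q ls lm k w * lx ls k z) * lb ls k = p * lb ls k * p' := by
  have hzn : -z ≠ 0 := neg_ne_zero.2 hz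
  by_cases h0 : w = 0
  · refine ⟨lx ls k (-z⁻¹), D.lx_mem_P _, lh ls k (-z) * lx ls k (-z⁻¹),
      D.mul_mem_P IH ha (D.lh_mem_P hzn) (D.lx_mem_P _), ?_⟩
    rw [h0, D.q_zero, one_mul, D.lb_lx_lb k hz]; group
  obtain ⟨hk, l, hl, rfl⟩ := D.exists_l IH hw h0
  obtain ⟨p, hp, hpe⟩ := D.la_shift IH ha (-z⁻¹) (-1)
  rw [D.la_neg IH ha] at hpe
  have hpe' : la ls lm k 1 * lx ls k (-z⁻¹) = p * la ls lm k 1 := by
    calc la ls lm k 1 * lx ls k (-z⁻¹)
        = la ls lm k 1 * (lx ls k (-z⁻¹) * (la ls lm k 1)⁻¹) * la ls lm k 1 := by group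
      _ = _ := by rw [hpe]; group
  refine ⟨l * p, D.mul_mem_P IH ha (D.L_mem_P hl) hp,
    q ls lm k ((1 : F) • en k) * lh ls k (-z) * lx ls k (-z⁻¹) * l⁻¹,
    D.mul_mem_P IH ha (D.mul_mem_P IH ha (D.mul_mem_P IH ha (D.q_mem_P IH ((above_en k).smul 1))
      (D.lh_mem_P hzn)) (D.lx_mem_P _)) (D.L_mem_P (inv_mem hl)), ?_⟩
  rw [← D.q_conj IH hl (above_en k)]
  have hq : (1 : F) • (en k : V) = en k := one_smul F _
  calc lb ls k * (l * q ls lm k (en k) * l⁻¹ * lx ls k z) * lb ls k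
      = lb ls k * l * q ls lm k (en k) * (l⁻¹ * lx ls k z) * lb ls k := by group
    _ = l * (lb ls k * q ls lm k (en k)) * lx ls k z * (l⁻¹ * lb ls k) := by
      rw [(D.lb_commute k hl).symm.eq, (D.lx_commute k (inv_mem hl) z).eq]; group
    _ = l * (la ls lm k 1) * (lb ls k * lx ls k z * lb ls k) * l⁻¹ := by
      rw [(D.lb_commute k (inv_mem hl)).eq, la, hq]; group
    _ = l * (la ls lm k 1 * lx ls k (-z⁻¹)) * lb ls k * lh ls k (-z) * lx ls k (-z⁻¹) * l⁻¹ := by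
      rw [D.lb_lx_lb k hz]; group
    _ = _ := by rw [hpe', la]; group

theorem b_qx_b' {w : V} (hw : Above ((k : ℕ) + 1) w) (z : F) :
    InK ls lm k (lb ls k * (q ls lm k w * lx ls k z) * lb ls k) := by
  by_cases hz : z = 0
  swap
  · obtain ⟨p, hp, p', hp', h⟩ := D.b_qx_b IH ha hw hz
    exact Or.inr ⟨p, hp, p', hp', Or.inl h⟩
  rw [hz, D.lx_zero, mul_one]
  by_cases h0 : w = 0
  · rw [h0, D.q_zero, mul_one, D.lb_sq]
    exact Or.inl (D.lh_mem_P (neg_ne_zero.2 one_ne_zero))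
  obtain ⟨hk, l, hl, rfl⟩ := D.exists_l IH hw h0
  refine Or.inr ⟨l, D.L_mem_P hl, lh ls k (-1) * l⁻¹,
    D.mul_mem_P IH ha (D.lh_mem_P (neg_ne_zero.2 one_ne_zero)) (D.L_mem_P (inv_mem hl)), Or.inr ?_⟩
  rw [← D.q_conj IH hl (above_en k), la, one_smul, ← D.lb_sq]
  calc lb ls k * (l * q ls lm k (en k) * l⁻¹) * lb ls k
      = lb ls k * l * q ls lm k (en k) * (l⁻¹ * lb ls k) := by group
    _ = _ := by rw [(D.lb_commute k hl).symm.eq, (D.lb_commute k (inv_mem hl)).eq]; group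

theorem b_P_b {p : Sp n F × H} (hp : p ∈ PSet ls lm k) : InK ls lm k (lb ls k * p * lb ls k) := by
  obtain ⟨w, z, t, hw, ht, l, hl, rfl⟩ := hp
  have e1 : lb ls k * (q ls lm k w * lx ls k z * lh ls k t * l) * lb ls k =
      lb ls k * (q ls lm k w * lx ls k z) * lb ls k * (lh ls k t⁻¹ * l) := by
    calc lb ls k * (q ls lm k w * lx ls k z * lh ls k t * l) * lb ls k
        = lb ls k * (q ls lm k w * lx ls k z) * lh ls k t * (l * lb ls k) := by group
      _ = lb ls k * (q ls lm k w * lx ls k z) * (lh ls k t⁻¹⁻¹ * lb ls k) * l := by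
        rw [(D.lb_commute k hl).eq, inv_inv]; group
      _ = _ := by rw [← D.lb_lh k (inv_ne_zero ht)]; group
  rw [e1]
  exact D.K_mul_right IH ha (D.mul_mem_P IH ha (D.lh_mem_P (inv_ne_zero ht)) (D.L_mem_P hl))
    (D.b_qx_b' IH ha hw z)

theorem b_P_a {p : Sp n F × H} (hp : p ∈ PSet ls lm k) : InK ls lm k (lb ls k * p * la ls lm k 1) := by
  obtain ⟨w, z, t, hw, ht, l, hl, rfl⟩ := hp
  have hw' := D.map_above (inv_mem hl) hw
  set w' := ap (l⁻¹).1 w with hw'def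
  have c1 : q ls lm k w * lx ls k z * lh ls k t * l = l * (q ls lm k w' * lx ls k z * lh ls k t) := by
    rw [hw'def, ← D.q_conj IH (inv_mem hl) hw]
    calc q ls lm k w * lx ls k z * lh ls k t * l = q ls lm k w * lx ls k z * (l * lh ls k t) := by
          rw [(D.lh_commute k hl t).eq]; group
      _ = q ls lm k w * (l * lx ls k z) * lh ls k t := by rw [(D.lx_commute k hl z).eq]; group
      _ = _ := by group
  have hha : lh ls k t * la ls lm k 1 = la ls lm k t⁻¹ * lh ls k t := by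
    have h1 : lh ls k t⁻¹ * q ls lm k (en k) = q ls lm k (t⁻¹ • en k) * lh ls k t⁻¹ := by
      rw [← D.lh_q IH (inv_ne_zero ht) (above_en k)]; group
    have h2 : lh ls k t⁻¹ * (lb ls k)⁻¹ = (lb ls k)⁻¹ * lh ls k t := by
      rw [mul_inv_eq_iff_eq_mul, mul_assoc, eq_inv_mul_iff_mul_eq, D.lb_lh k (inv_ne_zero ht), inv_inv]
    rw [la, la, one_smul]
    calc lh ls k t * (lb ls k * q ls lm k (en k) * (lb ls k)⁻¹)
        = (lh ls k t⁻¹⁻¹ * lb ls k) * q ls lm k (en k) * (lb ls k)⁻¹ := by rw [inv_inv]; group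
      _ = lb ls k * (lh ls k t⁻¹ * q ls lm k (en k)) * (lb ls k)⁻¹ := by
        rw [← D.lb_lh k (inv_ne_zero ht)]; group
      _ = lb ls k * q ls lm k (t⁻¹ • en k) * (lh ls k t⁻¹ * (lb ls k)⁻¹) := by rw [h1]; group
      _ = _ := by rw [h2]; group
  obtain ⟨u, hu⟩ : ∃ u : F, z + u ≠ 0 := by
    by_cases hz : z = 0
    · exact ⟨1, by rw [hz, zero_add]; exact one_ne_zero⟩
    · exact ⟨0, by rw [add_zero]; exact hz⟩
  obtain ⟨p'', hp'', hpe⟩ := D.la_shift IH ha (-u) t⁻¹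
  obtain ⟨p₁, hp₁, p₂, hp₂, hbb⟩ := D.b_qx_b IH ha hw' hu
  have e1 : lb ls k * (q ls lm k w * lx ls k z * lh ls k t * l) * la ls lm k 1 =
      lb ls k * (q ls lm k w * lx ls k z * lh ls k t * l) * la ls lm k 1 := rfl
  have e2 : lb ls k * (q ls lm k w' * lx ls k z) * la ls lm k t⁻¹ =
      p₁ * (lb ls k * (p₂ * q ls lm k (t⁻¹ • en k)) * lb ls k) * (lh ls k (-1) * p'') := by
    have hz' : lx ls k z = lx ls k (z + u) * lx ls k (-u) := by rw [← D.lx_add, add_neg_cancel_right]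
    calc lb ls k * (q ls lm k w' * lx ls k z) * la ls lm k t⁻¹
        = lb ls k * (q ls lm k w' * lx ls k (z + u)) * (lx ls k (-u) * la ls lm k t⁻¹) := by rw [hz']; group
      _ = lb ls k * (q ls lm k w' * lx ls k (z + u)) * lb ls k * q ls lm k (t⁻¹ • en k) * (lb ls k)⁻¹ * p'' := by
        rw [hpe, la]; group
      _ = _ := by rw [hbb, D.lb_inv]; group
  have e3 : lb ls k * (q ls lm k w * lx ls k z * lh ls k t * l) * la ls lm k 1 =
      lb ls k * l * (q ls lm k w' * lx ls k z * lh ls k t) * la ls lm k 1 := by rw [c1]; group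
  have e4 : lb ls k * l * (q ls lm k w' * lx ls k z * lh ls k t) * la ls lm k 1 =
      l * (lb ls k * (q ls lm k w' * lx ls k z) * la ls lm k t⁻¹) * lh ls k t := by
    rw [(D.lb_commute k hl).symm.eq]
    calc l * lb ls k * (q ls lm k w' * lx ls k z * lh ls k t) * la ls lm k 1
        = l * lb ls k * (q ls lm k w' * lx ls k z) * (lh ls k t * la ls lm k 1) := by group
      _ = _ := by rw [hha]; group
  rw [e3, e4, e2]
  refine D.K_mul_right IH ha (D.lh_mem_P ht) (D.K_mul_left IH ha (D.L_mem_P hl) ?_)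
  exact D.K_mul_right IH ha (D.mul_mem_P IH ha (D.lh_mem_P (neg_ne_zero.2 one_ne_zero)) hp'')
    (D.K_mul_left IH ha hp₁ (D.b_P_b IH ha (D.mul_mem_P IH ha hp₂ (D.q_mem_P IH ((above_en k).smul _)))))

theorem K_lb {x : Sp n F × H} (hx : InK ls lm k x) : InK ls lm k (lb ls k * x) := by
  rcases hx with hx | ⟨p₁, hp₁, p₂, hp₂, h | h⟩
  · exact Or.inr ⟨1, D.one_mem_P, x, hx, Or.inl (by rw [one_mul])⟩
  · rw [h, show lb ls k * (p₁ * lb ls k * p₂) = lb ls k * p₁ * lb ls k * p₂ by group]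
    exact D.K_mul_right IH ha hp₂ (D.b_P_b IH ha hp₁)
  · rw [h, show lb ls k * (p₁ * la ls lm k 1 * p₂) = lb ls k * p₁ * la ls lm k 1 * p₂ by group]
    exact D.K_mul_right IH ha hp₂ (D.b_P_a IH ha hp₁)

theorem closure_subset_K {x : Sp n F × H}
    (hx : x ∈ Subgroup.closure (PSet ls lm k ∪ {lb ls k})) : InK ls lm k x := by
  induction hx using Subgroup.closure_induction_left with
  | one => exact Or.inl D.one_mem_P
  | mul_left y hy z _ hz =>
    rcases hy with hy | rfl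
    · exact D.K_mul_left IH ha hy hz
    · exact D.K_lb IH ha hz
  | inv_mul_cancel y hy z _ hz =>
    rcases hy with hy | rfl
    · exact D.K_mul_left IH ha (D.inv_mem_P IH ha hy) hz
    · rw [D.lb_inv, mul_assoc]
      exact D.K_lb IH ha (D.K_mul_left IH ha (D.lh_mem_P (neg_ne_zero.2 one_ne_zero)) hz)

end Amal

end Cfsg.Agent.H68.SpAmalgam
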